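import Mathlib.RingTheory.Smooth.Basic
import Mathlib.RingTheory.Smooth.Kaehler
import Mathlib.RingTheory.LocalRing.ResidueField.Ideal
import Mathlib.RingTheory.Kaehler.Basic
import Mathlib.RingTheory.Ideal.Cotangent
import Mathlib.LinearAlgebra.LinearIndependent.Lemmas

/-!
# Dual derivations

`DualAt A K t`: there are `A`-derivations of `B` into the field `K` (a `B`-algebra) dual to the family `t`.
This is the same as the linear independence of the differentials `d t i` in `K ⊗ Ω[B⁄A]`.
-/

set_option autoImplicit false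

universe u v w

open TensorProduct KaehlerDifferential

namespace K27.Dual

variable (A : Type v) {B : Type u} (K : Type w) [CommRing A] [CommRing B] [Field K] [Algebra A B] [Algebra B K]
  [Algebra A K] [IsScalarTower A B K] {ι : Type*}

/-- There are derivations with values in `K` dual to the family `t`. -/
def DualAt (t : ι → B) : Prop :=
  ∀ i, ∃ δ : Derivation A B K, δ (t i) = 1 ∧ ∀ j, j ≠ i → δ (t j) = 0

variable {A K}

theorem DualAt.linearIndependent {t : ι → B} (h : DualAt A K t) :
    LinearIndependent K (fun i => (1 : K) ⊗ₜ[B] D A B (t i)) := by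
  classical
  rw [linearIndependent_iff']
  intro s g hg i hi
  obtain ⟨δ, h1, h2⟩ := h i
  have h3 := congrArg (LinearMap.liftBaseChange K δ.liftKaehlerDifferential) hg
  simp only [map_sum, map_smul, LinearMap.liftBaseChange_tmul, Derivation.liftKaehlerDifferential_comp_D, map_zero,
    smul_eq_mul, one_mul] at h3
  rw [Finset.sum_eq_single i] at h3
  · rwa [h1, mul_one] at h3
  · intro j _ hj
    rw [h2 j hj, mul_zero]
  · exact fun h => absurd hi h

omit [IsScalarTower A B K] in
theorem DualAt.comp {κ : Type*} {t : ι → B} (h : DualAt A K t) (e : κ → ι) (he : Function.Injective e) :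
    DualAt A K (fun i => t (e i)) := by
  intro i
  obtain ⟨δ, h1, h2⟩ := h (e i)
  exact ⟨δ, h1, fun j hj => h2 _ (he.ne hj)⟩

omit [IsScalarTower A B K] in
theorem DualAt.insert (t : ι → B) (i₀ : ι)
    (h : ∀ i, i ≠ i₀ → ∃ δ : Derivation A B K, δ (t i) = 1 ∧ ∀ j, j ≠ i → j ≠ i₀ → δ (t j) = 0)
    (δ₀ : Derivation A B K) (h0 : ∀ j, j ≠ i₀ → δ₀ (t j) = 0) (h1 : δ₀ (t i₀) ≠ 0) : DualAt A K t := by
  let δ₁ : Derivation A B K := (δ₀ (t i₀))⁻¹ • δ₀
  have h2 : δ₁ (t i₀) = 1 := by
    simp [δ₁, h1]
  have h3 : ∀ j, j ≠ i₀ → δ₁ (t j) = 0 := by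
    intro j hj
    simp [δ₁, h0 j hj]
  intro i
  by_cases hi : i = i₀
  · subst hi
    exact ⟨δ₁, h2, h3⟩
  · obtain ⟨δ, h4, h5⟩ := h i hi
    refine ⟨δ - (δ (t i₀)) • δ₁, ?_, ?_⟩
    · simp [h4, h3 i hi]
    · intro j hj
      by_cases hj0 : j = i₀
      · subst hj0
        simp [h2]
      · simp [h5 j hj hj0, h3 j hj0]

/-- If `C` and `C/(s)` are formally smooth over `A`, `K` is a field over `C` in which `s` vanishes and every element
annihilating `s` vanishes in `K`, there is a derivation `C → K` with value `1` at `s`. -/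
theorem exists_derivation (A : Type v) (C : Type u) (K : Type w) [CommRing A] [CommRing C] [Field K] [Algebra A C]
    [Algebra C K] [Algebra A K] [IsScalarTower A C K] [Algebra.FormallySmooth A C] (s : C)
    [Algebra.FormallySmooth A (C ⧸ Ideal.span {s})] (hs : algebraMap C K s = 0)
    (hne : ∀ c : C, c * s = 0 → algebraMap C K c = 0) : ∃ δ : Derivation A C K, δ s = 1 := by
  let E := C ⧸ Ideal.span {s}
  have hsurj : Function.Surjective (algebraMap C E) := Ideal.Quotient.mk_surjective
  obtain ⟨l, hl⟩ := (Algebra.FormallySmooth.iff_split_injection (R := A) hsurj).mp inferInstance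
  let J : Ideal C := RingHom.ker (algebraMap C E)
  have hJ : J = Ideal.span {s} := Ideal.mk_ker
  have hsJ : s ∈ J := by rw [hJ]; exact Ideal.mem_span_singleton_self s
  let y : J.Cotangent := J.toCotangent ⟨s, hsJ⟩
  let f : C →ₗ[C] J.Cotangent := LinearMap.toSpanSingleton C _ y
  have hf : Function.Surjective f := by
    intro z
    obtain ⟨⟨x, hx⟩, rfl⟩ := J.toCotangent_surjective z
    have hx' := hx
    rw [hJ, Ideal.mem_span_singleton'] at hx'
    obtain ⟨a, rfl⟩ := hx'
    refine ⟨a, ?_⟩
    change a • y = _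
    rw [← map_smul]
    rfl
  have hker : LinearMap.ker f ≤ LinearMap.ker (Algebra.linearMap C K) := by
    intro c hc
    rw [LinearMap.mem_ker] at hc ⊢
    have h1 : J.toCotangent (c • ⟨s, hsJ⟩) = 0 := by
      rw [map_smul]
      exact hc
    rw [Ideal.toCotangent_eq_zero] at h1
    have h1' : c * s ∈ J ^ 2 := h1
    rw [hJ, Ideal.span_singleton_pow, Ideal.mem_span_singleton'] at h1'
    obtain ⟨d, hd⟩ := h1'
    have h2 : (c - d * s) * s = 0 := by
      have h3 : d * s ^ 2 = c * s := hd
      linear_combination -h3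
    have h3 := hne _ h2
    rw [map_sub, map_mul, hs, mul_zero, sub_zero] at h3
    exact h3
  let lam : J.Cotangent →ₗ[C] K :=
    (LinearMap.ker f).liftQ (Algebra.linearMap C K) hker ∘ₗ (f.quotKerEquivOfSurjective hf).symm.toLinearMap
  have hlam : lam y = 1 := by
    have h1 : (f.quotKerEquivOfSurjective hf).symm y = Submodule.Quotient.mk 1 := by
      rw [LinearEquiv.symm_apply_eq, LinearMap.quotKerEquivOfSurjective_apply_mk]
      simp only [f, LinearMap.toSpanSingleton_apply, one_smul]
    change (LinearMap.ker f).liftQ (Algebra.linearMap C K) hker ((f.quotKerEquivOfSurjective hf).symm y) = 1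
    rw [h1, Submodule.liftQ_apply, Algebra.linearMap_apply, map_one]
  let μ : Ω[C⁄A] →ₗ[C] K := lam ∘ₗ l ∘ₗ (TensorProduct.mk C E Ω[C⁄A] 1)
  refine ⟨μ.compDer (D A C), ?_⟩
  have h5 : l ((1 : E) ⊗ₜ[C] D A C s) = y := by
    have := LinearMap.congr_fun hl y
    exact this
  change lam (l ((1 : E) ⊗ₜ[C] D A C s)) = 1
  rw [h5, hlam]

/-- The transversality criterion: `t` is a family with dual derivations at `p`, `C = B/(t)` and `C/(s)` are
formally smooth over `A`, `s` is regular on `C`; then `t` together with `s` has dual derivations. -/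
theorem exists_derivation_of_quotient (t : ι → B) [Algebra.FormallySmooth A (B ⧸ Ideal.span (Set.range t))] (s : B)
    (ht : ∀ i, algebraMap B K (t i) = 0) (hs : algebraMap B K s = 0)
    [Algebra.FormallySmooth A ((B ⧸ Ideal.span (Set.range t)) ⧸
      Ideal.span {Ideal.Quotient.mk (Ideal.span (Set.range t)) s})]
    (hne : ∀ c : B, c * s ∈ Ideal.span (Set.range t) → algebraMap B K c = 0) :
    ∃ δ : Derivation A B K, δ s = 1 ∧ ∀ i, δ (t i) = 0 := by
  let I := Ideal.span (Set.range t)
  have hI : ∀ a ∈ I, algebraMap B K a = 0 := by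
    intro a ha
    have : I ≤ RingHom.ker (algebraMap B K) := by
      rw [Ideal.span_le]
      rintro _ ⟨i, rfl⟩
      exact ht i
    exact this ha
  let _ : Algebra (B ⧸ I) K := (Ideal.Quotient.lift I (algebraMap B K) hI).toAlgebra
  have hmk : ∀ b : B, algebraMap (B ⧸ I) K (Ideal.Quotient.mk I b) = algebraMap B K b := fun b => rfl
  have : IsScalarTower B (B ⧸ I) K := IsScalarTower.of_algebraMap_eq fun b => rfl
  have : IsScalarTower A (B ⧸ I) K := IsScalarTower.of_algebraMap_eq fun a => by
    rw [IsScalarTower.algebraMap_apply A B K]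
    rfl
  obtain ⟨δ, hδ⟩ := exists_derivation A (B ⧸ I) K (Ideal.Quotient.mk I s) (by rw [hmk, hs]) (by
    intro c hc
    obtain ⟨b, rfl⟩ := Ideal.Quotient.mk_surjective c
    rw [hmk]
    apply hne
    rwa [← map_mul, Ideal.Quotient.eq_zero_iff_mem] at hc)
  let δ' : Derivation A B K := by
    refine Derivation.mk' ((δ : (B ⧸ I) →ₗ[A] K) ∘ₗ (Ideal.Quotient.mkₐ A I).toLinearMap) ?_
    intro a b
    change δ (Ideal.Quotient.mk I (a * b)) = a • δ (Ideal.Quotient.mk I b) + b • δ (Ideal.Quotient.mk I a)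
    rw [map_mul, δ.leibniz, Algebra.smul_def, Algebra.smul_def, Algebra.smul_def, Algebra.smul_def, hmk, hmk]
  refine ⟨δ', hδ, fun i => ?_⟩
  change δ (Ideal.Quotient.mk I (t i)) = 0
  have h1 : Ideal.Quotient.mk I (t i) = 0 :=
    Ideal.Quotient.eq_zero_iff_mem.mpr (Ideal.subset_span (Set.mem_range_self i))
  rw [h1, map_zero]

end K27.Dual
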