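import Groth.Agent.Vanish.K27.GenRing
import Groth.Agent.Lefpen.H705.JacHyp
import Mathlib.RingTheory.MvPolynomial.Localization
import Mathlib.RingTheory.Polynomial.Basic
import Mathlib.RingTheory.Smooth.NoetherianDescent

/-!
# Bertini's theorem in characteristic zero, for rings
-/

set_option autoImplicit false

universe u v

open IsLocalRing

namespace K27.RingBert

attribute [local instance] MvPolynomial.algebraMvPolynomial

variable (k B : Type u) [Field k] [CommRing B] [Algebra k B] {ι : Type} [Fintype ι] (w : ι → B)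

omit [Fintype ι] in
theorem algebraMap_C (r : k) : algebraMap (MvPolynomial ι k) (MvPolynomial ι B) (MvPolynomial.C r) =
    MvPolynomial.C (algebraMap k B r) := MvPolynomial.map_C _ _

omit [Fintype ι] in
theorem algebraMap_X (i : ι) : algebraMap (MvPolynomial ι k) (MvPolynomial ι B) (MvPolynomial.X i) =
    MvPolynomial.X i := MvPolynomial.map_X _ _

/-- The universal member of the linear system spanned by `w`. -/
noncomputable def univ : MvPolynomial ι B := ∑ i, MvPolynomial.X i * MvPolynomial.C (w i)

/-- The incidence algebra. -/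
abbrev Inc : Type u := MvPolynomial ι B ⧸ Ideal.span {univ B w}

theorem smooth_inc (hw : Ideal.span (Set.range w) = ⊤) : Algebra.Smooth B (Inc B w) := by
  classical
  apply Groth.Agent.Lefpen.H705.JacHyp.smooth_quotient_of_pderiv
  rw [eq_top_iff, ← Ideal.map_top MvPolynomial.C, ← hw, Ideal.map_span, Ideal.span_le]
  rintro _ ⟨_, ⟨i, rfl⟩, rfl⟩
  apply Ideal.subset_span
  right
  refine ⟨i, ?_⟩
  simp only [univ, map_sum, Derivation.leibniz, MvPolynomial.pderiv_C, MvPolynomial.pderiv_X, smul_eq_mul]
  rw [Finset.sum_eq_single i]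
  · simp
  · intro j _ hj
    simp [hj]
  · intro h
    exact absurd (Finset.mem_univ i) h

theorem isRegularLocalRing_of_smooth (k C : Type u) [Field k] [PerfectField k] [CommRing C] [Algebra k C]
    [Algebra.Smooth k C] (P : Ideal C) [P.IsPrime] : IsRegularLocalRing (Localization.AtPrime P) := by
  have h : Algebra.IsSmoothAt k P := by
    have : Algebra.FormallySmooth C (Localization.AtPrime P) := .of_isLocalization P.primeCompl
    exact Algebra.FormallySmooth.comp k C _
  exact (Groth.Agent.CalgC.RegSmooth.isSmoothAt_iff_isRegularLocalRing_of_perfectField (k := k) P).mp h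

/-- Generic smoothness over a polynomial ring. -/
theorem exists_smooth_mvPolynomial (k C : Type u) [Field k] [CharZero k] [CommRing C] [Algebra k C] [Algebra.Smooth k C]
    (ι : Type) [Finite ι] [Algebra (MvPolynomial ι k) C] [IsScalarTower k (MvPolynomial ι k) C] :
    ∃ p : MvPolynomial ι k, p ≠ 0 ∧
      Algebra.Smooth (MvPolynomial ι k) (Localization.Away (algebraMap (MvPolynomial ι k) C p)) := by
  have : Algebra.FinitePresentation (MvPolynomial ι k) C :=
    Algebra.FinitePresentation.of_restrict_scalars_finitePresentation k (MvPolynomial ι k) C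
  exact K27.GenRing.exists_smooth (MvPolynomial ι k) C fun P _ _ => isRegularLocalRing_of_smooth k C P

/-- Specialisation: smoothness of the special member from smoothness of the incidence algebra. -/
theorem smooth_of_eval [Algebra.FiniteType k B] (p : MvPolynomial ι k)
    (hp : Algebra.Smooth (MvPolynomial ι k) (Localization.Away (algebraMap (MvPolynomial ι k) (Inc B w) p)))
    (c : ι → k) (hc : MvPolynomial.eval c p ≠ 0) : Algebra.Smooth k (B ⧸ Ideal.span {∑ i, c i • w i}) := by
  have hfp : Algebra.FinitePresentation k (B ⧸ Ideal.span {∑ i, c i • w i}) :=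
    Algebra.FinitePresentation.of_finiteType.mp inferInstance
  refine ⟨?_, hfp⟩
  let R₀ := MvPolynomial ι k
  let L := Localization.Away (algebraMap R₀ (Inc B w) p)
  let E := B ⧸ Ideal.span {∑ i, c i • w i}
  -- the map from the incidence algebra
  let φ₀ : MvPolynomial ι B →ₐ[B] E := MvPolynomial.aeval (fun i => algebraMap k E (c i))
  have hφ₀ : φ₀ (univ B w) = 0 := by
    simp only [univ, map_sum, map_mul, φ₀, MvPolynomial.aeval_X, MvPolynomial.aeval_C]
    have h1 : (∑ i, algebraMap k E (c i) * algebraMap B E (w i)) =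
        Ideal.Quotient.mk (Ideal.span {∑ i, c i • w i}) (∑ i, c i • w i) := by
      rw [map_sum]
      refine Finset.sum_congr rfl fun i _ => ?_
      rw [Algebra.smul_def, map_mul]
      rfl
    rw [h1, Ideal.Quotient.eq_zero_iff_mem]
    exact Ideal.mem_span_singleton_self _
  let φ₁ : Inc B w →ₐ[B] E := Ideal.Quotient.liftₐ _ φ₀ (fun a ha => by
    obtain ⟨b, rfl⟩ := Ideal.mem_span_singleton.mp ha
    rw [map_mul, hφ₀, zero_mul])
  have hφ₁ : ∀ q : R₀, φ₁ (algebraMap R₀ (Inc B w) q) = algebraMap k E (MvPolynomial.eval c q) := by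
    intro q
    have h1 : (φ₁ : Inc B w →+* E).comp (algebraMap R₀ (Inc B w)) =
        (algebraMap k E).comp (MvPolynomial.eval c) := by
      apply MvPolynomial.ringHom_ext
      · intro r
        have h2 : algebraMap R₀ (Inc B w) (MvPolynomial.C r) = algebraMap B (Inc B w) (algebraMap k B r) := by
          have h3 : algebraMap R₀ (MvPolynomial ι B) (MvPolynomial.C r) = MvPolynomial.C (algebraMap k B r) :=
            algebraMap_C k B r
          rw [IsScalarTower.algebraMap_apply R₀ (MvPolynomial ι B) (Inc B w), h3]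
          rfl
        simp only [RingHom.comp_apply, MvPolynomial.eval_C]
        rw [h2]
        exact (φ₁.commutes _).trans (IsScalarTower.algebraMap_apply k B E r).symm
      · intro i
        have h3 : algebraMap R₀ (MvPolynomial ι B) (MvPolynomial.X i) = MvPolynomial.X i :=
          algebraMap_X k B i
        simp only [RingHom.comp_apply, MvPolynomial.eval_X]
        rw [IsScalarTower.algebraMap_apply R₀ (MvPolynomial ι B) (Inc B w), h3]
        change φ₀ (MvPolynomial.X i) = _
        simp [φ₀]
    exact congr($h1 q)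
  let φ : L →+* E := IsLocalization.Away.lift (S := L) (algebraMap R₀ (Inc B w) p) (g := (φ₁ : Inc B w →+* E)) (by
    change IsUnit (φ₁ (algebraMap R₀ (Inc B w) p))
    rw [hφ₁]
    exact (isUnit_iff_ne_zero.mpr hc).map _)
  have hφ : ∀ x : Inc B w, φ (algebraMap (Inc B w) L x) = φ₁ x := fun x =>
    IsLocalization.Away.lift_eq _ _ x
  refine Algebra.FormallySmooth.of_comp_surjective ?_
  intro T _ _ I hI g
  let _ : Algebra R₀ T := ((algebraMap k T).comp (MvPolynomial.eval c)).toAlgebra
  have hRT : ∀ q : R₀, algebraMap R₀ T q = algebraMap k T (MvPolynomial.eval c q) := fun q => rfl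
  let g' : L →ₐ[R₀] T ⧸ I :=
    { (g : E →+* T ⧸ I).comp φ with
      commutes' := by
        intro q
        change g (φ (algebraMap R₀ L q)) = algebraMap R₀ (T ⧸ I) q
        rw [IsScalarTower.algebraMap_apply R₀ (Inc B w) L, hφ, hφ₁, g.commutes]
        rfl }
  obtain ⟨h, hh⟩ := Algebra.FormallySmooth.comp_surjective R₀ L I hI g'
  have hh' : ∀ x : L, Ideal.Quotient.mk I (h x) = g (φ x) := fun x => congr($hh x)
  let β : B →+* T := (h : L →+* T).comp ((algebraMap (Inc B w) L).comp (algebraMap B (Inc B w)))
  have hβk : ∀ r : k, β (algebraMap k B r) = algebraMap k T r := by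
    intro r
    have h2 : algebraMap R₀ (Inc B w) (MvPolynomial.C r) = algebraMap B (Inc B w) (algebraMap k B r) := by
      have h3 : algebraMap R₀ (MvPolynomial ι B) (MvPolynomial.C r) = MvPolynomial.C (algebraMap k B r) :=
        algebraMap_C k B r
      rw [IsScalarTower.algebraMap_apply R₀ (MvPolynomial ι B) (Inc B w), h3]
      rfl
    change h (algebraMap (Inc B w) L (algebraMap B (Inc B w) (algebraMap k B r))) = _
    rw [← h2, ← IsScalarTower.algebraMap_apply R₀ (Inc B w) L, h.commutes, hRT, MvPolynomial.eval_C]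
  have hs : β (∑ i, c i • w i) = 0 := by
    have h1 : algebraMap (MvPolynomial ι B) (Inc B w) (univ B w) = 0 :=
      Ideal.Quotient.eq_zero_iff_mem.mpr (Ideal.mem_span_singleton_self _)
    have h2 := congrArg (fun x => h (algebraMap (Inc B w) L x)) h1
    simp only [map_zero, univ, map_sum, map_mul] at h2
    rw [← h2, map_sum]
    refine Finset.sum_congr rfl fun i _ => ?_
    rw [Algebra.smul_def, map_mul, hβk]
    congr 1
    have h3 : algebraMap R₀ (MvPolynomial ι B) (MvPolynomial.X i) = MvPolynomial.X i :=
      algebraMap_X k B i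
    rw [← h3, ← IsScalarTower.algebraMap_apply R₀ (MvPolynomial ι B) (Inc B w),
      ← IsScalarTower.algebraMap_apply R₀ (Inc B w) L, h.commutes, hRT, MvPolynomial.eval_X]
  let γ : E →ₐ[k] T :=
    { Ideal.Quotient.lift (Ideal.span {∑ i, c i • w i}) β (fun a ha => by
        obtain ⟨b, rfl⟩ := Ideal.mem_span_singleton.mp ha
        rw [map_mul, hs, zero_mul]) with
      commutes' := fun r => hβk r }
  refine ⟨γ, ?_⟩
  apply AlgHom.ext
  intro x
  obtain ⟨b, rfl⟩ := Ideal.Quotient.mk_surjective x
  change Ideal.Quotient.mk I (β b) = g (Ideal.Quotient.mk _ b)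
  change Ideal.Quotient.mk I (h (algebraMap (Inc B w) L (algebraMap B (Inc B w) b))) = _
  rw [hh', hφ]
  congr 1
  exact φ₁.commutes b

/-- Bertini's theorem in characteristic zero: if `w` generates the unit ideal of a smooth algebra, the general member of
the linear system spanned by `w` is smooth. -/
theorem exists_poly [CharZero k] [Algebra.Smooth k B] (hw : Ideal.span (Set.range w) = ⊤) :
    ∃ p : MvPolynomial ι k, p ≠ 0 ∧ ∀ c : ι → k, MvPolynomial.eval c p ≠ 0 →
      Algebra.Smooth k (B ⧸ Ideal.span {∑ i, c i • w i}) := by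
  have := smooth_inc B w hw
  have : Algebra.Smooth k (Inc B w) := Algebra.Smooth.comp k B (Inc B w)
  obtain ⟨p, hp, h⟩ := exists_smooth_mvPolynomial k (Inc B w) ι
  exact ⟨p, hp, fun c hc => smooth_of_eval k B w p h c hc⟩

end K27.RingBert
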