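import Groth.Agent.Vanish.K27.NZD
import Groth.Agent.Vanish.K27.RingBert
import Groth.Agent.Vanish.K27.Dual
import Groth.Agent.LogNCD.K922.EtBasis

/-!
# Bertini's theorem with normal crossings on an affine chart
-/

set_option autoImplicit false

universe u v w

open TensorProduct KaehlerDifferential K27.Dual

namespace K27.ChartBert

/-- Coordinate subspaces are smooth. -/
theorem smooth_quotient_coord (A B : Type u) [CommRing A] [CommRing B] [Algebra A B] {σ : Type} [Finite σ] (v : σ → B)
    (h : (MvPolynomial.eval₂Hom (algebraMap A B) v).Etale) (K : Set σ) :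
    Algebra.Smooth A (B ⧸ Ideal.span (Set.range fun j : K => v j)) := by
  classical
  let P := MvPolynomial σ A
  let _ : Algebra P B := (MvPolynomial.eval₂Hom (algebraMap A B) v).toAlgebra
  have hP : Algebra.Etale P B := h
  have : IsScalarTower A P B := IsScalarTower.of_algebraMap_eq fun a => by
    change _ = MvPolynomial.eval₂Hom (algebraMap A B) v (MvPolynomial.C a)
    simp
  have hX : ∀ j, algebraMap P B (MvPolynomial.X j) = v j := fun j => by
    change MvPolynomial.eval₂Hom (algebraMap A B) v (MvPolynomial.X j) = v j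
    simp
  have hP' : Algebra.Smooth A P := ⟨inferInstance, inferInstance⟩
  have hAB : Algebra.Smooth A B := Algebra.Smooth.comp A P B
  have hfg : (Ideal.span (Set.range fun j : K => v j)).FG :=
    Submodule.fg_span (Set.finite_range _)
  refine ⟨?_, Algebra.FinitePresentation.quotient hfg⟩
  refine Algebra.FormallySmooth.of_comp_surjective ?_
  intro T _ _ I hI g
  choose lft hlft using fun j => Ideal.Quotient.mk_surjective (I := I) (g (Ideal.Quotient.mk _ (v j)))
  let a : σ → T := fun j => if j ∈ K then 0 else lft j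
  have ha : ∀ j, Ideal.Quotient.mk I (a j) = g (Ideal.Quotient.mk _ (v j)) := by
    intro j
    by_cases hj : j ∈ K
    · have h1 : Ideal.Quotient.mk (Ideal.span (Set.range fun j : K => v j)) (v j) = 0 :=
        Ideal.Quotient.eq_zero_iff_mem.mpr (Ideal.subset_span ⟨⟨j, hj⟩, rfl⟩)
      rw [h1, map_zero]
      simp [a, hj]
    · simp [a, hj, hlft]
  let _ : Algebra P T := (MvPolynomial.aeval a : P →ₐ[A] T).toRingHom.toAlgebra
  have hPT : ∀ j, algebraMap P T (MvPolynomial.X j) = a j := fun j => by
    change MvPolynomial.aeval a (MvPolynomial.X j) = a j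
    simp
  have hAT : ∀ x : A, algebraMap P T (MvPolynomial.C x) = algebraMap A T x := fun x => by
    change MvPolynomial.aeval a (MvPolynomial.C x) = _
    simp
  let g' : B →ₐ[P] T ⧸ I :=
    { (g : (B ⧸ Ideal.span (Set.range fun j : K => v j)) →+* T ⧸ I).comp (Ideal.Quotient.mk _) with
      commutes' := by
        intro q
        change g (Ideal.Quotient.mk _ (algebraMap P B q)) = Ideal.Quotient.mk I (algebraMap P T q)
        have h1 : ((g : (B ⧸ Ideal.span (Set.range fun j : K => v j)) →+* T ⧸ I).comp (Ideal.Quotient.mk _)).comp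
            (algebraMap P B) = (Ideal.Quotient.mk I).comp (algebraMap P T) := by
          apply MvPolynomial.ringHom_ext
          · intro r
            simp only [RingHom.comp_apply]
            rw [hAT]
            have h2 : algebraMap P B (MvPolynomial.C r) = algebraMap A B r :=
              (IsScalarTower.algebraMap_apply A P B r).symm
            rw [h2]
            exact g.commutes r
          · intro j
            simp only [RingHom.comp_apply]
            rw [hX, hPT, ha]
            rfl
        exact congr($h1 q) }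
  obtain ⟨h', hh'⟩ := Algebra.FormallySmooth.comp_surjective P B I hI g'
  have hh : ∀ x : B, Ideal.Quotient.mk I (h' x) = g (Ideal.Quotient.mk _ x) := fun x => congr($hh' x)
  have hv : ∀ j, h' (v j) = a j := fun j => by
    rw [← hX, h'.commutes, hPT]
  have hle : ∀ x ∈ Ideal.span (Set.range fun j : K => v j), (h' : B →+* T) x = 0 := by
    intro x hx
    have h2 : Ideal.span (Set.range fun j : K => v j) ≤ RingHom.ker (h' : B →+* T) := by
      rw [Ideal.span_le]
      rintro _ ⟨j, rfl⟩
      change h' (v j) = 0
      rw [hv]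
      simp [a, j.2]
    exact h2 hx
  let γ : (B ⧸ Ideal.span (Set.range fun j : K => v j)) →ₐ[A] T :=
    { Ideal.Quotient.lift _ (h' : B →+* T) hle with
      commutes' := by
        intro r
        change h' (algebraMap A B r) = _
        rw [IsScalarTower.algebraMap_apply A P B, h'.commutes]
        exact hAT r }
  refine ⟨γ, ?_⟩
  apply AlgHom.ext
  intro x
  obtain ⟨b, rfl⟩ := Ideal.Quotient.mk_surjective x
  exact hh b

/-- If `B` is étale over `A[T_j]` through `T_j ↦ v_j`, the `dv_j` are a basis of `Ω[B⁄A]`. -/
theorem exists_basis (A B : Type u) [CommRing A] [CommRing B] [Algebra A B] {σ : Type} (v : σ → B)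
    (h : (MvPolynomial.eval₂Hom (algebraMap A B) v).Etale) :
    ∃ b : Module.Basis σ B (Ω[B⁄A]), ∀ j, b j = KaehlerDifferential.D A B (v j) := by
  let _ : Algebra (MvPolynomial σ A) B := (MvPolynomial.eval₂Hom (algebraMap A B) v).toAlgebra
  have : IsScalarTower A (MvPolynomial σ A) B := IsScalarTower.of_algebraMap_eq fun a => by
    change _ = MvPolynomial.eval₂Hom (algebraMap A B) v (MvPolynomial.C a)
    simp
  have : Algebra.Etale (MvPolynomial σ A) B := h
  let e := KaehlerDifferential.tensorKaehlerEquivOfFormallyEtale A (MvPolynomial σ A) B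
  refine ⟨((KaehlerDifferential.mvPolynomialBasis A σ).baseChange B).map e, ?_⟩
  intro j
  rw [Module.Basis.map_apply, Module.Basis.baseChange_apply, KaehlerDifferential.mvPolynomialBasis_apply]
  apply e.symm.injective
  rw [LinearEquiv.symm_apply_apply]
  have : v j = algebraMap (MvPolynomial σ A) B (MvPolynomial.X j) := by
    change v j = MvPolynomial.eval₂Hom (algebraMap A B) v (MvPolynomial.X j)
    simp
  rw [this]
  exact (KaehlerDifferential.tensorKaehlerEquivOfFormallyEtale_symm_D_algebraMap A (MvPolynomial σ A) B _).symm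

/-- Étale coordinates have dual derivations. -/
theorem dualAt_of_etale (A B : Type u) (K : Type w) [CommRing A] [CommRing B] [Algebra A B] [Field K] [Algebra B K]
    [Algebra A K] [IsScalarTower A B K] {σ : Type} (v : σ → B)
    (h : (MvPolynomial.eval₂Hom (algebraMap A B) v).Etale) : DualAt A K v := by
  classical
  obtain ⟨b, hb⟩ := exists_basis A B v h
  intro i
  refine ⟨((Algebra.linearMap B K) ∘ₗ (b.coord i)).compDer (D A B), ?_, fun j hj => ?_⟩
  · change algebraMap B K (b.coord i (D A B (v i))) = 1
    rw [← hb]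
    simp
  · change algebraMap B K (b.coord i (D A B (v j))) = 0
    rw [← hb]
    simp [hj]

/-- The general member of the linear system spanned by `w` is smooth and a nonzerodivisor. -/
def Gen (k B : Type u) [Field k] [CommRing B] [Algebra k B] {ι : Type} [Fintype ι] (w : ι → B) : Prop :=
  ∃ p : MvPolynomial ι k, p ≠ 0 ∧ ∀ c : ι → k, MvPolynomial.eval c p ≠ 0 →
    Algebra.Smooth k (B ⧸ Ideal.span {∑ i, c i • w i}) ∧ ∑ i, c i • w i ∈ nonZeroDivisors B

theorem gen_of_charZero (k B : Type u) [Field k] [CharZero k] [CommRing B] [Algebra k B] [Algebra.Smooth k B]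
    {ι : Type} [Fintype ι] (w : ι → B) (hw : Ideal.span (Set.range w) = ⊤) : Gen k B w := by
  have : IsReduced B := Groth.Agent.Flat2B.SmoothGeom.isReduced_of_smooth_field k B
  have : IsNoetherianRing B := Algebra.FiniteType.isNoetherianRing k B
  obtain ⟨p, hp, h⟩ := K27.RingBert.exists_poly k B w hw
  obtain ⟨q, hq, h'⟩ := K27.NZD.exists_poly k B w hw
  refine ⟨p * q, mul_ne_zero hp hq, fun c hc => ?_⟩
  rw [map_mul] at hc
  exact ⟨h c (left_ne_zero_of_mul hc), h' c (right_ne_zero_of_mul hc)⟩

/-- The conclusion of the chart-wise Bertini theorem: the member with coefficients `c` crosses the coordinate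
hyperplanes normally. -/
def Crosses (k B : Type u) [Field k] [CommRing B] [Algebra k B] {σ : Type} (v : σ → B) (s : B) : Prop :=
  ∀ (K : Type u) [Field K] [Algebra B K] [Algebra k K] [IsScalarTower k B K] (J : Set σ),
    (∀ j ∈ J, algebraMap B K (v j) = 0) → algebraMap B K s = 0 →
    ∃ δ : Derivation k B K, δ s = 1 ∧ ∀ j ∈ J, δ (v j) = 0

theorem exists_poly (k B : Type u) [Field k] [CommRing B] [Algebra k B] {σ : Type} [Finite σ] (v : σ → B)
    (h : (MvPolynomial.eval₂Hom (algebraMap k B) v).Etale) {ι : Type} [Fintype ι] (w : ι → B)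
    (hgen : ∀ J : Set σ, Gen k (B ⧸ Ideal.span (Set.range fun j : J => v j)) (fun i => Ideal.Quotient.mk _ (w i))) :
    ∃ p : MvPolynomial ι k, p ≠ 0 ∧ ∀ c : ι → k, MvPolynomial.eval c p ≠ 0 → Crosses k B v (∑ i, c i • w i) := by
  classical
  choose p hp h' using hgen
  have : Fintype (Set σ) := Fintype.ofFinite _
  refine ⟨∏ J, p J, Finset.prod_ne_zero_iff.mpr fun J _ => hp J, fun c hc => ?_⟩
  rw [map_prod, Finset.prod_ne_zero_iff] at hc
  intro K _ _ _ _ J hJ hs
  obtain ⟨h1, h2⟩ := h' J c (hc J (Finset.mem_univ _))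
  have h3 : ∑ i, c i • (Ideal.Quotient.mk (Ideal.span (Set.range fun j : J => v j)) (w i)) =
      Ideal.Quotient.mk _ (∑ i, c i • w i) := by
    rw [map_sum]
    rfl
  rw [h3] at h1 h2
  have h4 := smooth_quotient_coord k B v h J
  obtain ⟨δ, hδ, hδ'⟩ := exists_derivation_of_quotient (A := k) (K := K) (fun j : J => v j) (∑ i, c i • w i)
    (fun j => hJ j j.2) hs (by
      intro b hb
      have h5 : Ideal.Quotient.mk (Ideal.span (Set.range fun j : J => v j)) b *
          Ideal.Quotient.mk _ (∑ i, c i • w i) = 0 := by
        rw [← map_mul, Ideal.Quotient.eq_zero_iff_mem]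
        exact hb
      have h6 := (mem_nonZeroDivisors_iff_right.mp h2) _ h5
      rw [Ideal.Quotient.eq_zero_iff_mem] at h6
      have h7 : Ideal.span (Set.range fun j : J => v j) ≤ RingHom.ker (algebraMap B K) := by
        rw [Ideal.span_le]
        rintro _ ⟨j, rfl⟩
        exact hJ j j.2
      exact h7 h6)
  exact ⟨δ, hδ, fun j hj => hδ' ⟨j, hj⟩⟩

/-- Bertini with normal crossings on a chart, characteristic zero. -/
theorem exists_poly_charZero (k B : Type u) [Field k] [CharZero k] [CommRing B] [Algebra k B] {σ : Type} [Finite σ]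
    (v : σ → B) (h : (MvPolynomial.eval₂Hom (algebraMap k B) v).Etale) {ι : Type} [Fintype ι] (w : ι → B)
    (hw : Ideal.span (Set.range w) = ⊤) :
    ∃ p : MvPolynomial ι k, p ≠ 0 ∧ ∀ c : ι → k, MvPolynomial.eval c p ≠ 0 → Crosses k B v (∑ i, c i • w i) := by
  refine exists_poly k B v h w fun J => ?_
  have := smooth_quotient_coord k B v h J
  apply gen_of_charZero
  rw [eq_top_iff, ← Ideal.map_top (Ideal.Quotient.mk (Ideal.span (Set.range fun j : J => v j))), ← hw, Ideal.map_span,
    ← Set.range_comp]
  rfl

/-- Dual derivations for the coordinate hyperplanes and the divisor `s` which crosses them. -/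
theorem dualAt_of_crosses (k B : Type u) [Field k] [CommRing B] [Algebra k B] {σ : Type} (v : σ → B)
    (h : (MvPolynomial.eval₂Hom (algebraMap k B) v).Etale) (s : B) (hX : Crosses k B v s)
    (K : Type u) [Field K] [Algebra B K] [Algebra k K] [IsScalarTower k B K] {τ : Type*} (t : τ → B)
    (a : τ → Option σ) (ha : Function.Injective a) (ht : ∀ i, t i = (a i).elim s v)
    (h0 : ∀ i, algebraMap B K (t i) = 0) : DualAt k K t := by
  classical
  have hd := dualAt_of_etale k B K v h
  by_cases hn : ∃ i₀, a i₀ = none
  · obtain ⟨i₀, hi₀⟩ := hn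
    have hs : t i₀ = s := by rw [ht, hi₀]; rfl
    obtain ⟨δ₀, h1, h2⟩ := hX K {j | ∃ i, a i = some j} (by
      rintro j ⟨i, hi⟩
      have := h0 i
      rwa [ht, hi] at this) (by rw [← hs]; exact h0 i₀)
    refine DualAt.insert t i₀ ?_ δ₀ ?_ ?_
    · intro i hi
      obtain ⟨j, hj⟩ : ∃ j, a i = some j := by
        rcases h3 : a i with _ | j
        · exact absurd (ha (h3.trans hi₀.symm)) hi
        · exact ⟨j, rfl⟩
      obtain ⟨δ, h3, h4⟩ := hd j
      refine ⟨δ, by rw [ht, hj]; exact h3, ?_⟩
      intro i' hi' hi'0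
      rcases h5 : a i' with _ | j'
      · exact absurd (ha (h5.trans hi₀.symm)) hi'0
      · rw [ht, h5]
        apply h4
        rintro rfl
        exact hi' (ha (h5.trans hj.symm))
    · intro i hi
      rcases h5 : a i with _ | j
      · exact absurd (ha (h5.trans hi₀.symm)) hi
      · rw [ht, h5]
        exact h2 j ⟨i, h5⟩
    · rw [hs, h1]
      exact one_ne_zero
  · push Not at hn
    choose b hb using fun i => Option.ne_none_iff_exists'.mp (hn i)
    have hb' : Function.Injective b := fun i j hij => ha (by rw [hb, hb, hij])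
    have := hd.comp b hb'
    have e : t = fun i => v (b i) := by
      funext i
      rw [ht, hb]
      rfl
    rw [e]
    exact this

/-- Passing from `k` to an algebra `A` onto which `k` surjects. -/
theorem dualAt_of_surjective (k : Type u) {A B : Type u} [CommRing k] [CommRing A] [CommRing B] [Algebra k A]
    [Algebra k B] [Algebra A B] [IsScalarTower k A B] (K : Type u) [Field K] [Algebra B K] [Algebra k K] [Algebra A K]
    [IsScalarTower k B K] [IsScalarTower A B K] (hs : Function.Surjective (algebraMap k A)) {τ : Type*} (t : τ → B)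
    (h : DualAt k K t) : DualAt A K t := by
  intro i
  obtain ⟨δ, h1, h2⟩ := h i
  have hsm : ∀ (a : A) (b : B), δ (a • b) = a • δ b := by
    intro a b
    obtain ⟨c, rfl⟩ := hs a
    have e1 : algebraMap k A c • b = c • b := by
      rw [Algebra.smul_def, Algebra.smul_def, IsScalarTower.algebraMap_apply k A B]
    have e2 : algebraMap k A c • δ b = c • δ b := by
      rw [Algebra.smul_def, Algebra.smul_def, IsScalarTower.algebraMap_apply A B K,
        IsScalarTower.algebraMap_apply k B K, IsScalarTower.algebraMap_apply k A B]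
    rw [e1, δ.map_smul, e2]
  refine ⟨Derivation.mk' { toFun := δ, map_add' := δ.map_add, map_smul' := hsm } (fun a b => δ.leibniz a b), h1, h2⟩

end K27.ChartBert
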