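import Groth.Agent.Vanish.K27.Crit
import Groth.Agent.Vanish.K27.ChartBert

/-!
# Smoothness of closed subschemes via rings; strata of a normal crossing divisor
-/

set_option autoImplicit false

universe u

open CategoryTheory CategoryTheory.Limits AlgebraicGeometry Opposite TopologicalSpace
open Groth.Agent.Sga67.Sec K922.Coord K922.Chart

namespace K27.Strata

variable {X S : Scheme.{u}}

/-- Smoothness of a closed subscheme over the base may be tested on quotient rings of affine charts. -/
theorem smooth_subscheme (f : X ⟶ S) (I : X.IdealSheafData)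
    (h : ∀ x : X, x ∈ I.support → ∃ (U : X.affineOpens) (V : S.affineOpens) (e : U.1 ≤ f ⁻¹ᵁ V.1), x ∈ U.1 ∧
      ((Ideal.Quotient.mk (I.ideal U)).comp (f.appLE V.1 U.1 e).hom).Smooth) : Smooth (I.subschemeι ≫ f) := by
  have h' : ∀ y : I.subscheme, I.subschemeι y ∈ I.support := fun y => by
    have := Set.mem_range_self (f := I.subschemeι) y
    rwa [I.range_subschemeι] at this
  choose U V e hx hs using fun y : I.subscheme => h (I.subschemeι y) (h' y)
  let 𝒰 : I.subscheme.OpenCover :=
    Scheme.Cover.mkOfCovers I.subscheme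
      (fun y => Spec (.of (Γ(X, (U y).1) ⧸ I.ideal (U y))))
      (fun y => I.subschemeCover.f (U y)) (fun y => by
        have h2 : y ∈ (I.subschemeCover.f (U y)).opensRange := by
          rw [Scheme.IdealSheafData.opensRange_subschemeCover_map]
          exact hx y
        exact ⟨y, h2⟩) (fun y => I.subschemeCover.map_prop (U y))
  rw [IsZariskiLocalAtSource.iff_of_openCover (P := @Smooth) 𝒰]
  intro (y : I.subscheme)
  change Smooth (I.subschemeCover.f (U y) ≫ I.subschemeι ≫ f)
  have h3 : I.subschemeCover.f (U y) ≫ I.subschemeι ≫ f =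
      Spec.map (CommRingCat.ofHom ((Ideal.Quotient.mk (I.ideal (U y))).comp (f.appLE (V y).1 (U y).1 (e y)).hom)) ≫
        (V y).2.fromSpec := by
    rw [← Category.assoc, Scheme.IdealSheafData.subschemeCover_map_subschemeι,
      Scheme.IdealSheafData.glueDataObjι_ι, CommRingCat.ofHom_comp, Spec.map_comp, Category.assoc]
    refine (Category.assoc _ _ _).trans ?_
    congr 1
    exact (IsAffineOpen.SpecMap_appLE_fromSpec f (V y).2 (U y).2 (e y)).symm
  rw [h3]
  have h4 : Smooth (Spec.map (CommRingCat.ofHom
      ((Ideal.Quotient.mk (I.ideal (U y))).comp (f.appLE (V y).1 (U y).1 (e y)).hom))) :=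
    (HasRingHomProperty.Spec_iff (P := @Smooth)).mpr (hs y)
  have h5 : Smooth (V y).2.fromSpec := inferInstance
  exact MorphismProperty.comp_mem (W := @Smooth) _ _ h4 h5

/-- The zero algebra is smooth. -/
theorem smooth_of_subsingleton (A B : Type u) [CommRing A] [CommRing B] [Algebra A B] [Subsingleton B]
    [Algebra.FinitePresentation A B] : Algebra.Smooth A B := by
  refine ⟨Algebra.FormallySmooth.of_comp_surjective ?_, inferInstance⟩
  intro T _ _ I hI g
  have h1 : (1 : T ⧸ I) = 0 := by
    rw [← map_one g, Subsingleton.elim (1 : B) 0, map_zero]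
  have h2 : (1 : T) ∈ I := by
    rw [← Ideal.Quotient.eq_zero_iff_mem, map_one, h1]
  have h3 : (1 : T) ∈ I ^ 2 := by
    rw [pow_two, ← one_mul (1 : T)]
    exact Ideal.mul_mem_mul h2 h2
  rw [hI, Ideal.mem_bot] at h3
  have hT : Subsingleton T := subsingleton_of_zero_eq_one h3.symm
  refine ⟨{ toFun := fun _ => 0, map_one' := Subsingleton.elim _ _, map_mul' := fun _ _ => Subsingleton.elim _ _,
            map_zero' := rfl, map_add' := fun _ _ => Subsingleton.elim _ _,
            commutes' := fun _ => Subsingleton.elim _ _ }, ?_⟩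
  apply AlgHom.ext
  intro x
  obtain ⟨t, ht⟩ := Ideal.Quotient.mk_surjective (g x)
  rw [← ht]
  exact congrArg (Ideal.Quotient.mk I) (Subsingleton.elim (0 : T) t)

theorem ideal_biSup {r : ℕ} (D : Fin r → X.IdealSheafData) (J : Set (Fin r)) (W : X.affineOpens)
    (g : Fin r → Γ(X, W.1)) (hg : ∀ i, (D i).ideal W = Ideal.span {g i}) :
    (⨆ i : J, D i.1).ideal W = Ideal.span (Set.range fun i : J => g i.1) := by
  rw [Scheme.IdealSheafData.ideal_iSup, iSup_apply, ← Set.iUnion_singleton_eq_range, Ideal.span_iUnion]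
  exact iSup_congr fun i => hg i.1

/-- Strata on a chart are smooth. -/
theorem smooth_chart (A B : Type u) [CommRing A] [CommRing B] [Algebra A B] {n r : ℕ} (v : Fin n → B)
    (h : (MvPolynomial.eval₂Hom (algebraMap A B) v).Etale) (e : Fin r → Option (Fin n)) (g : Fin r → B)
    (g_none : ∀ i, e i = none → g i = 1) (g_some : ∀ i k, e i = some k → g i = v k) (J : Set (Fin r)) :
    Algebra.Smooth A (B ⧸ Ideal.span (Set.range fun i : J => g i.1)) := by
  by_cases hn : ∃ i ∈ J, e i = none
  · obtain ⟨i, hi, hi'⟩ := hn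
    have h1 : Ideal.span (Set.range fun i : J => g i.1) = ⊤ := by
      rw [Ideal.eq_top_iff_one]
      exact Ideal.subset_span ⟨⟨i, hi⟩, g_none i hi'⟩
    have h0 := K27.ChartBert.smooth_quotient_coord A B v h ∅
    have h2 : Algebra.Smooth A B := by
      let P := MvPolynomial (Fin n) A
      let _ : Algebra P B := (MvPolynomial.eval₂Hom (algebraMap A B) v).toAlgebra
      have hP : Algebra.Etale P B := h
      have : IsScalarTower A P B := IsScalarTower.of_algebraMap_eq fun a => by
        change _ = MvPolynomial.eval₂Hom (algebraMap A B) v (MvPolynomial.C a)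
        simp
      have hP' : Algebra.Smooth A P := ⟨inferInstance, inferInstance⟩
      exact Algebra.Smooth.comp A P B
    have h3 : Algebra.FinitePresentation A (B ⧸ Ideal.span (Set.range fun i : J => g i.1)) :=
      Algebra.FinitePresentation.quotient (Submodule.fg_span (Set.finite_range _))
    have h4 : Subsingleton (B ⧸ Ideal.span (Set.range fun i : J => g i.1)) :=
      Ideal.Quotient.subsingleton_iff.mpr h1
    exact smooth_of_subsingleton A _
  · push Not at hn
    have h1 : (Set.range fun i : J => g i.1) = Set.range fun j : {j : Fin n | ∃ i ∈ J, e i = some j} => v j.1 := by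
      ext b
      constructor
      · rintro ⟨⟨i, hi⟩, rfl⟩
        obtain ⟨j, hj⟩ := Option.ne_none_iff_exists'.mp (hn i hi)
        exact ⟨⟨j, i, hi, hj⟩, (g_some i j hj).symm⟩
      · rintro ⟨⟨j, i, hi, hj⟩, rfl⟩
        exact ⟨⟨i, hi⟩, g_some i j hj⟩
    rw [h1]
    exact K27.ChartBert.smooth_quotient_coord A B v h _

/-- The strata `⋂_{i ∈ J} D_i` of a relative normal crossing divisor are smooth over the base. -/
theorem smooth_stratum (f : X ⟶ S) [Smooth f] {r : ℕ} {D : Fin r → X.IdealSheafData} (hD : LogNCD.IsNCD D f)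
    (J : Set (Fin r)) : Smooth ((⨆ i : J, D i.1).subschemeι ≫ f) := by
  apply smooth_subscheme
  intro x _
  obtain ⟨U, n, c, hxU, -⟩ := exists_chart hD (O := ⊤) (x := x) trivial
  obtain ⟨W, hWU, V, e, -, hxW, het⟩ := c.coord x U.1 le_rfl hxU
  refine ⟨W, V, e, hxW, ?_⟩
  let c' := c.restrict hWU
  let _ : Algebra Γ(S, V.1) Γ(X, W.1) := (f.appLE V.1 W.1 e).hom.toAlgebra
  have h1 := smooth_chart Γ(S, V.1) Γ(X, W.1) c'.v het c'.e c'.g c'.g_none c'.g_some J
  have h2 := ideal_biSup D J W c'.g (fun i => by rw [c'.ideal i W le_rfl, resO_self])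
  rw [h2]
  rw [← RingHom.smooth_algebraMap] at h1
  exact h1

/-- The components of a relative normal crossing divisor are smooth over the base. -/
theorem smooth_component (f : X ⟶ S) [Smooth f] {r : ℕ} {D : Fin r → X.IdealSheafData} (hD : LogNCD.IsNCD D f)
    (i : Fin r) : Smooth ((D i).subschemeι ≫ f) := by
  have h1 := smooth_stratum f hD {i}
  have h2 : (⨆ j : ({i} : Set (Fin r)), D j.1) = D i := by
    rw [iSup_unique]
    rfl
  rwa [h2] at h1

end K27.Strata
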