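import Groth.Agent.Vanish.K27.JetMain

/-!
# The number of components of a normal crossing divisor through a point is bounded
-/

set_option autoImplicit false

universe u

open CategoryTheory CategoryTheory.Limits AlgebraicGeometry Opposite TopologicalSpace
open Groth.Agent.Fdesc.LocGen K27.SecScal K27.JetMain K27.Main0 K27.ChartBert
open K922.Coord K922.Chart
open Groth.Agent.Sga67.Sec (resO)

namespace K27.NcdBound

variable {k : Type u} [Field k] {X : Scheme.{u}} [X.Over (Spec (CommRingCat.of k))]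

/-- Restriction to smaller affine opens is étale. -/
theorem etale_ores {U W : X.affineOpens} (h : W.1 ≤ U.1) : (ores h).Etale := by
  have h1 : (Scheme.Hom.appLE (𝟙 X) U.1 W.1 h).hom.Etale :=
    HasRingHomProperty.appLE @Etale (𝟙 X) inferInstance U W h
  have h2 : Scheme.Hom.appLE (𝟙 X) U.1 W.1 h = X.presheaf.map (homOfLE h).op := by
    rw [Scheme.Hom.appLE, Scheme.Hom.id_app]
    exact Category.id_comp _
  rw [h2] at h1
  exact h1

/-- Restriction of étale coordinates. -/
theorem etale_coord_res {U W : X.affineOpens} (h : W.1 ≤ U.1) {n : ℕ} (v : Fin n → Γ(X, U.1))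
    (hv : (MvPolynomial.eval₂Hom (scal k U.1) v).Etale) :
    (MvPolynomial.eval₂Hom (scal k W.1) (fun i => ores h (v i))).Etale := by
  have h1 : MvPolynomial.eval₂Hom (scal k W.1) (fun i => ores h (v i)) =
      (ores h).comp (MvPolynomial.eval₂Hom (scal k U.1) v) := by
    apply MvPolynomial.ringHom_ext
    · intro r
      simp only [MvPolynomial.eval₂Hom_C, RingHom.comp_apply]
      exact (ores_scal k h r).symm
    · intro j
      simp
  rw [h1]
  exact RingHom.Etale.stableUnderComposition _ _ hv (etale_ores h)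

theorem card_unique {U W : X.affineOpens} {x : X} (hxU : x ∈ U.1) (hxW : x ∈ W.1) {n m : ℕ} (v : Fin n → Γ(X, U.1))
    (hv : (MvPolynomial.eval₂Hom (scal k U.1) v).Etale) (w : Fin m → Γ(X, W.1))
    (hw : (MvPolynomial.eval₂Hom (scal k W.1) w).Etale) : n = m := by
  obtain ⟨_, ⟨O, hO, rfl⟩, hxO, hOle⟩ :=
    X.isBasis_affineOpens.exists_subset_of_mem_open (⟨hxU, hxW⟩ : x ∈ U.1 ⊓ W.1) (U.1 ⊓ W.1).2
  have hOU : O ≤ U.1 := fun y hy => (hOle hy).1
  have hOW : O ≤ W.1 := fun y hy => (hOle hy).2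
  have h1 := etale_coord_res (k := k) (U := U) (W := ⟨O, hO⟩) hOU v hv
  have h2 := etale_coord_res (k := k) (U := W) (W := ⟨O, hO⟩) hOW w hw
  let _ : Algebra k Γ(X, O) := (scal k O).toAlgebra
  have hne : Nonempty O := ⟨⟨x, hxO⟩⟩
  obtain ⟨b, -⟩ := exists_basis k Γ(X, O) _ h1
  obtain ⟨b', -⟩ := exists_basis k Γ(X, O) _ h2
  have hnt : Nontrivial Γ(X, O) := by
    have := (hO.primeIdealOf ⟨x, hxO⟩).2
    exact ⟨⟨0, 1, fun h => this.ne_top ((Ideal.eq_top_iff_one _).mpr (h ▸ Ideal.zero_mem _))⟩⟩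
  have h3 := Module.finrank_eq_card_basis b
  have h4 := Module.finrank_eq_card_basis b'
  rw [Fintype.card_fin] at h3 h4
  exact h3.symm.trans h4

/-- At most `d` components of a normal crossing divisor pass through a point. -/
theorem exists_bound [Smooth (X ↘ Spec (CommRingCat.of k))] [CompactSpace X] :
    ∃ d : ℕ, ∀ (r : ℕ) (D : Fin r → X.IdealSheafData) (_ : LogNCD.IsNCD D (X ↘ Spec (CommRingCat.of k))) (y : X)
      (n : ℕ) (t : Fin n → Fin r) (_ : Function.Injective t) (_ : ∀ j, y ∈ (D (t j)).support), n ≤ d := by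
  classical
  have key : ∀ (r : ℕ) (D : Fin r → X.IdealSheafData) (_ : LogNCD.IsNCD D (X ↘ Spec (CommRingCat.of k))) (y : X),
      ∃ (W : X.affineOpens) (n : ℕ) (v : Fin n → Γ(X, W.1)), y ∈ W.1 ∧
        (MvPolynomial.eval₂Hom (scal k W.1) v).Etale ∧
        ∀ (m : ℕ) (t : Fin m → Fin r) (_ : Function.Injective t) (_ : ∀ j, y ∈ (D (t j)).support), m ≤ n := by
    intro r D hD y
    obtain ⟨W, V, e, n, c, hyW, -, het⟩ := exists_chart_le (X ↘ Spec (CommRingCat.of k)) hD ⊤ y trivial
    have hV : V.1 = ⊤ := eq_top_of_mem V.1 ((X ↘ Spec (CommRingCat.of k)) y) (e hyW)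
    refine ⟨W, n, c.v, hyW, etale_k W V e c het hV, fun m t ht hy => ?_⟩
    have hsome : ∀ j, ∃ l, c.e (t j) = some l := by
      intro j
      rcases h : c.e (t j) with _ | l
      · exfalso
        have h1 : (D (t j)).ideal W = Ideal.span {c.g (t j)} := by
          rw [c.ideal (t j) W le_rfl, Groth.Agent.Sga67.Sec.resO_self]
        have h2 := (mem_support_iff_span (D (t j)) W _ h1 y hyW).mp (hy j)
        rw [c.g_none _ h] at h2
        apply h2
        rw [Scheme.basicOpen_one]
        exact hyW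
      · exact ⟨l, rfl⟩
    choose l hl using hsome
    have hinj : Function.Injective l := fun a b hab => ht (c.inj _ _ _ (hl a) (hab ▸ hl b))
    simpa using Fintype.card_le_of_injective l hinj
  have hD0 : LogNCD.IsNCD (fun i : Fin 0 => (i.elim0 : X.IdealSheafData)) (X ↘ Spec (CommRingCat.of k)) := by
    intro x hx
    obtain ⟨⟨i, -⟩⟩ := hx
    exact i.elim0
  choose W n v hxW hv _ using fun x => key 0 _ hD0 x
  obtain ⟨J, hJ⟩ := isCompact_univ.elim_finite_subcover (fun x => ((W x).1 : Set X)) (fun x => (W x).1.2)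
    (fun x _ => Set.mem_iUnion.mpr ⟨x, hxW x⟩)
  refine ⟨J.sup n, fun r D hD y m t ht hy => ?_⟩
  obtain ⟨W', n', v', hyW', hv', h'⟩ := key r D hD y
  obtain ⟨x, hx, hyx⟩ := Set.mem_iUnion₂.mp (hJ (Set.mem_univ y))
  have h1 : n' = n x := card_unique (k := k) hyW' hyx v' hv' (v x) (hv x)
  exact (h' m t ht hy).trans (h1.le.trans (Finset.le_sup (f := n) hx))

end K27.NcdBound
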