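import Groth.Agent.Vanish.K27.Coord
import Groth.Agent.Vanish.K27.Dual
import Groth.Agent.LogNCD.K922.Chart
import Groth.Agent.Pi1.H404.Chart

/-!
# The pointwise criterion for normal crossings
-/

set_option autoImplicit false

universe u

open CategoryTheory CategoryTheory.Limits AlgebraicGeometry Opposite TopologicalSpace
open Groth.Agent.Sga67.Sec K922.Coord K922.Chart

namespace K27.Crit

/-- The ring map version of the property `DualAt` at a prime. -/
def DualFor {A B : Type u} [CommRing A] [CommRing B] (φ : A →+* B) (p : Ideal B) [p.IsPrime] {ι : Type*}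
    (t : ι → B) : Prop :=
  letI := φ.toAlgebra
  K27.Dual.DualAt A p.ResidueField t

variable {X S : Scheme.{u}}

/-- From étale ring maps to étale morphisms to affine space. -/
theorem etale_of_ring (f : X ⟶ S) (W : X.affineOpens) (V : S.affineOpens) (e : W.1 ≤ f ⁻¹ᵁ V.1) {σ : Type u}
    (v : σ → Γ(W.1.toScheme, ⊤))
    (h : (MvPolynomial.eval₂Hom (f.appLE V.1 W.1 e).hom (fun j => W.1.topIso.hom (v j))).Etale) :
    Etale (AffineSpace.homOfVector (W.1.ι ≫ f) v) := by
  have : IsAffine W.1.toScheme := W.2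
  have : IsAffine V.1.toScheme := V.2
  have h1 : (MvPolynomial.eval₂Hom (f.resLE V.1 W.1 e).appTop.hom v).Etale := by
    have h3 : MvPolynomial.eval₂Hom (f.resLE V.1 W.1 e).appTop.hom v =
        ((W.1.topIso.inv.hom.comp (MvPolynomial.eval₂Hom (f.appLE V.1 W.1 e).hom (fun j => W.1.topIso.hom (v j))))).comp
        (MvPolynomial.mapEquiv σ V.1.topIso.commRingCatIsoToRingEquiv).toRingHom := by
      have h4 := Groth.Agent.Pi1.H411.Chart.resLE_appTop_topIso f V.1 W.1 e
      have h5 : (f.resLE V.1 W.1 e).appTop = V.1.topIso.hom ≫ f.appLE V.1 W.1 e ≫ W.1.topIso.inv := by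
        rw [← h4, Category.assoc, Category.assoc, Iso.hom_inv_id, Category.comp_id, Iso.hom_inv_id_assoc]
      apply MvPolynomial.ringHom_ext
      · intro r
        simp only [MvPolynomial.eval₂Hom_C, RingHom.comp_apply, RingEquiv.toRingHom_eq_coe, RingHom.coe_coe,
          MvPolynomial.mapEquiv_apply, MvPolynomial.map_C]
        rw [h5]
        rfl
      · intro j
        simp only [MvPolynomial.eval₂Hom_X', RingHom.comp_apply, RingEquiv.toRingHom_eq_coe, RingHom.coe_coe,
          MvPolynomial.mapEquiv_apply, MvPolynomial.map_X]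
        exact (congr($(W.1.topIso.hom_inv_id) (v j))).symm
    rw [h3]
    apply RingHom.Etale.respectsIso.2 _ (MvPolynomial.mapEquiv σ V.1.topIso.commRingCatIsoToRingEquiv)
    exact RingHom.Etale.respectsIso.1 _ W.1.topIso.symm.commRingCatIsoToRingEquiv h
  have h2 := Groth.Agent.Pi1.H413.SecChart.etale_homOfVector_of_isAffine _ _ h1
  have h3 : AffineSpace.homOfVector (W.1.ι ≫ f) v =
      AffineSpace.homOfVector (f.resLE V.1 W.1 e) v ≫ AffineSpace.map σ V.1.ι := by
    rw [Groth.Agent.Pi1.H404.Chart.homOfVector_comp_map]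
    congr 1
    simp
  rw [h3]
  infer_instance

instance {r : ℕ} (D : Fin r → X.IdealSheafData) (x : X) : Finite (LogNCD.Through D x) :=
  inferInstanceAs (Finite {i : Fin r // x ∈ (D i).support})

theorem ideal_res (I : X.IdealSheafData) {U V : X.affineOpens} (h : V.1 ≤ U.1) (t : Γ(X, U.1))
    (ht : I.ideal U = Ideal.span {t}) : I.ideal V = Ideal.span {resO X h t} := by
  have h1 := I.map_ideal (U := V) (V := U) h
  rw [ht, Ideal.map_span, Set.image_singleton] at h1
  exact h1.symm

theorem mem_basicOpen_iff (U : X.affineOpens) {x : X} (hx : x ∈ U.1) (g : Γ(X, U.1)) :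
    x ∈ X.basicOpen g ↔ g ∉ (U.2.primeIdealOf ⟨x, hx⟩).asIdeal := by
  have h1 : U.2.fromSpec (U.2.primeIdealOf ⟨x, hx⟩) = x := U.2.fromSpec_primeIdealOf ⟨x, hx⟩
  have h2 := U.2.fromSpec_preimage_basicOpen g
  have h3 : U.2.primeIdealOf ⟨x, hx⟩ ∈ U.2.fromSpec ⁻¹ᵁ X.basicOpen g ↔
      g ∉ (U.2.primeIdealOf ⟨x, hx⟩).asIdeal := by
    rw [h2]
    exact PrimeSpectrum.mem_basicOpen _ _
  rw [← h3]
  change x ∈ X.basicOpen g ↔ U.2.fromSpec (U.2.primeIdealOf ⟨x, hx⟩) ∈ X.basicOpen g
  rw [h1]

/-- Étaleness over the abstract localization gives étaleness over the basic open. -/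
theorem etale_basicOpen (f : X ⟶ S) (U : X.affineOpens) (V : S.affineOpens) (e : U.1 ≤ f ⁻¹ᵁ V.1) (g : Γ(X, U.1))
    {σ : Type} (v : σ → Γ(X, U.1))
    (h : letI := (f.appLE V.1 U.1 e).hom.toAlgebra
      (MvPolynomial.eval₂Hom (algebraMap Γ(S, V.1) (Localization.Away g))
        (fun j => algebraMap Γ(X, U.1) (Localization.Away g) (v j))).Etale) :
    (MvPolynomial.eval₂Hom (f.appLE V.1 (X.basicOpen g) ((X.basicOpen_le g).trans e)).hom
      (fun j => resO X (X.basicOpen_le g) (v j))).Etale := by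
  let _ : Algebra Γ(S, V.1) Γ(X, U.1) := (f.appLE V.1 U.1 e).hom.toAlgebra
  let _ : Algebra Γ(X, U.1) Γ(X, X.basicOpen g) := (resO X (X.basicOpen_le g)).toAlgebra
  have hloc : IsLocalization.Away g Γ(X, X.basicOpen g) := U.2.isLocalization_basicOpen g
  let ε : Localization.Away g ≃ₐ[Γ(X, U.1)] Γ(X, X.basicOpen g) :=
    IsLocalization.algEquiv (Submonoid.powers g) _ _
  have h1 : MvPolynomial.eval₂Hom (f.appLE V.1 (X.basicOpen g) ((X.basicOpen_le g).trans e)).hom
      (fun j => resO X (X.basicOpen_le g) (v j)) =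
      (ε.toRingEquiv : Localization.Away g →+* Γ(X, X.basicOpen g)).comp
        (MvPolynomial.eval₂Hom (algebraMap Γ(S, V.1) (Localization.Away g))
        (fun j => algebraMap Γ(X, U.1) (Localization.Away g) (v j))) := by
    apply MvPolynomial.ringHom_ext
    · intro r
      simp only [MvPolynomial.eval₂Hom_C, RingHom.comp_apply]
      have h2 : (f.appLE V.1 (X.basicOpen g) ((X.basicOpen_le g).trans e)).hom r =
          resO X (X.basicOpen_le g) ((f.appLE V.1 U.1 e).hom r) :=
        congr($((Scheme.Hom.appLE_map f e (homOfLE (X.basicOpen_le g)).op).symm).hom r)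
      rw [h2]
      have h3 : algebraMap Γ(S, V.1) (Localization.Away g) r =
          algebraMap Γ(X, U.1) (Localization.Away g) (algebraMap Γ(S, V.1) Γ(X, U.1) r) :=
        IsScalarTower.algebraMap_apply _ _ _ _
      rw [h3]
      exact (ε.commutes _).symm
    · intro j
      simp only [MvPolynomial.eval₂Hom_X', RingHom.comp_apply]
      exact (ε.commutes _).symm
  rw [h1]
  exact RingHom.Etale.respectsIso.1 _ ε.toRingEquiv h

/-- The pointwise criterion for normal crossings: around each point the divisors through the point have equations with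
dual derivations at the point. -/
theorem isNCD_of_forall (f : X ⟶ S) [Smooth f] {r : ℕ} (D : Fin r → X.IdealSheafData)
    (H : ∀ x : X, Nonempty (LogNCD.Through D x) → ∃ (U : X.affineOpens) (V : S.affineOpens) (e : U.1 ≤ f ⁻¹ᵁ V.1)
      (hx : x ∈ U.1) (t : LogNCD.Through D x → Γ(X, U.1)), (∀ i, (D i.1).ideal U = Ideal.span {t i}) ∧
      DualFor (f.appLE V.1 U.1 e).hom (U.2.primeIdealOf ⟨x, hx⟩).asIdeal t) :
    LogNCD.IsNCD D f := by
  classical
  intro x hT
  obtain ⟨U, V, e, hx, t, ht, hdual⟩ := H x hT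
  let p := (U.2.primeIdealOf ⟨x, hx⟩).asIdeal
  let _ : Algebra Γ(S, V.1) Γ(X, U.1) := (f.appLE V.1 U.1 e).hom.toAlgebra
  have hsm : Algebra.Smooth Γ(S, V.1) Γ(X, U.1) :=
    HasRingHomProperty.appLE @Smooth f inferInstance V U e
  obtain ⟨g, m, b, hg, het⟩ := K27.Coord.exists_etale Γ(S, V.1) Γ(X, U.1) p t hdual.linearIndependent
  have hxg : x ∈ X.basicOpen g := (mem_basicOpen_iff U hx g).mpr hg
  let G : X.affineOpens := ⟨X.basicOpen g, U.2.basicOpen g⟩
  have hGU : G.1 ≤ U.1 := X.basicOpen_le g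
  let σ := LogNCD.Through D x ⊕ Fin m
  have het' : (MvPolynomial.eval₂Hom (f.appLE V.1 G.1 (hGU.trans e)).hom
      (fun j : σ => resO X hGU (Sum.elim t b j))).Etale :=
    etale_basicOpen f U V e g (Sum.elim t b) het
  have hc := isCoord_of_ring f G V (hGU.trans e) _ het'
  let Z : Set X := ⋃ i : {i : Fin r // x ∉ (D i).support}, ((D i.1).support : Set X)
  have hZ : IsClosed Z := isClosed_iUnion_of_finite fun i => (D i.1).support.isClosed
  let O' : X.Opens := G.1 ⊓ ⟨Zᶜ, hZ.isOpen_compl⟩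
  have hxO' : x ∈ O' := ⟨hxg, fun h => by
    obtain ⟨i, hi⟩ := Set.mem_iUnion.mp h
    exact i.2 hi⟩
  obtain ⟨W, hWG, V', e', hWO, hxW, hW⟩ := hc x O' inf_le_left hxO'
  have hWU : W.1 ≤ U.1 := hWG.trans hGU
  have : Fintype σ := Fintype.ofFinite _
  let n := Fintype.card σ
  let τ : σ ≃ Fin n := Fintype.equivFin σ
  let v : ULift.{u} (Fin n) → Γ(W.1.toScheme, ⊤) := fun j =>
    W.1.topIso.inv (resO X hWU (Sum.elim t b (τ.symm j.down)))
  have hv : ∀ j, W.1.topIso.hom (v j) = resO X hWU (Sum.elim t b (τ.symm j.down)) := fun j =>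
    congr($(W.1.topIso.inv_hom_id) _)
  refine ⟨W.1, hxW, n, v, fun i => τ (Sum.inl i), ?_, ?_, ?_, ?_⟩
  · intro i j hij
    exact Sum.inl_injective (τ.injective hij)
  · apply etale_of_ring f W V' e' v
    have h1 : MvPolynomial.eval₂Hom (f.appLE V'.1 W.1 e').hom (fun j => W.1.topIso.hom (v j)) =
        (MvPolynomial.eval₂Hom (f.appLE V'.1 W.1 e').hom
          (fun j : σ => resO X hWG (resO X hGU (Sum.elim t b j)))).comp
          (MvPolynomial.renameEquiv Γ(S, V'.1) (Equiv.ulift.{u}.trans τ.symm)).toRingEquiv.toRingHom := by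
      apply MvPolynomial.ringHom_ext
      · intro r
        simp
      · intro j
        simp only [MvPolynomial.eval₂Hom_X', RingHom.comp_apply]
        rw [hv, ← resO_resO hGU hWG]
        simp
    rw [h1]
    exact RingHom.Etale.respectsIso.2 _ _ hW
  · intro i U' h
    have h1 : LogNCD.sectOn W.1 h (v (ULift.up (τ (Sum.inl i)))) = resO X (h.trans hWU) (t i) := by
      change resO X h (W.1.topIso.hom (v (ULift.up (τ (Sum.inl i))))) = _
      rw [hv]
      simp only [Equiv.symm_apply_apply, Sum.elim_inl]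
      exact resO_resO hWU h _
    rw [h1]
    exact ideal_res _ (h.trans hWU) _ (ht i)
  · intro i hi U' h
    apply ideal_eq_top_of_disjoint
    intro y hy hyi
    exact (hWO (h hy)).2 (Set.mem_iUnion.mpr ⟨⟨i, hi⟩, hyi⟩)

end K27.Crit
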