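import Groth.Agent.Vanish.K27.LinExt
import Groth.Agent.Lefpen.H708.EtaleCoord
import Mathlib.RingTheory.Smooth.StandardSmoothOfFree
import Mathlib.RingTheory.LocalRing.Module

/-!
# Extending functions with independent differentials to étale coordinates
-/

set_option autoImplicit false

universe u v w

open TensorProduct KaehlerDifferential

namespace K27.Coord

/-- Elements of a finite projective module whose classes in the fibre at a prime `p` form a basis, are a basis over a
neighbourhood of `p`. -/
theorem exists_notMem_bijective {B : Type u} [CommRing B] (p : Ideal B) [p.IsPrime] {M : Type v} [AddCommGroup M]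
    [Module B M] [Module.Finite B M] [Module.Projective B M] {σ : Type u} [Finite σ] (v : σ → M)
    (h : Function.Bijective (Finsupp.linearCombination p.ResidueField (fun i => (1 : p.ResidueField) ⊗ₜ[B] v i))) :
    ∃ g : B, g ∉ p ∧ Function.Bijective (LocalizedModule.map (Submonoid.powers g) (Finsupp.linearCombination B v)) := by
  have : Module.FinitePresentation B M := Module.finitePresentation_of_projective _ _
  refine Module.FinitePresentation.exists_notMem_bijective (Finsupp.linearCombination B v) p
    (Finsupp.mapRange.linearMap (Algebra.linearMap B (Localization.AtPrime p)))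
    (TensorProduct.mk B (Localization.AtPrime p) M 1) ?_
  rw [IsLocalizedModule.map_linearCombination, LinearMap.coe_restrictScalars]
  apply Module.IsLocalRing.linearCombination_bijective_of_flat
  rw [← (AlgebraTensorModule.cancelBaseChange B (Localization.AtPrime p) p.ResidueField
    p.ResidueField M).comp_bijective]
  convert h using 1
  ext x
  induction x using Finsupp.induction_linear with
  | zero => simp
  | add a b ha hb => simp_all
  | single i c => simp

/-- Functions whose differentials are independent at a prime `p` extend to étale coordinates near `p`. -/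
theorem exists_etale (A : Type v) (B : Type u) [CommRing A] [CommRing B] [Algebra A B] [Algebra.Smooth A B]
    (p : Ideal B) [p.IsPrime] {ι : Type} [Finite ι] (t : ι → B)
    (ht : LinearIndependent p.ResidueField (fun i => (1 : p.ResidueField) ⊗ₜ[B] D A B (t i))) :
    ∃ (g : B) (m : ℕ) (b : Fin m → B), g ∉ p ∧
      (MvPolynomial.eval₂Hom (algebraMap A (Localization.Away g))
        (fun i => algebraMap B (Localization.Away g) (Sum.elim t b i))).Etale := by
  classical
  let f : B → p.ResidueField ⊗[B] Ω[B⁄A] := fun x => 1 ⊗ₜ D A B x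
  have hf : Submodule.span p.ResidueField (Set.range f) = ⊤ := by
    have h1 : Submodule.span B (Set.range (D A B)) = ⊤ := span_range_derivation A B
    have h2 := Submodule.baseChange_span (R := B) (M := Ω[B⁄A]) (A := p.ResidueField) (Set.range (D A B))
    rw [h1, Submodule.baseChange_top, ← Set.range_comp] at h2
    exact h2.symm
  obtain ⟨m, b, hli, hsp⟩ := K27.LinExt.exists_extension f hf t ht
  let s : ULift.{u} (ι ⊕ Fin m) → B := fun i => Sum.elim t b i.down
  have hbij : Function.Bijective (Finsupp.linearCombination p.ResidueField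
      (fun i => (1 : p.ResidueField) ⊗ₜ[B] D A B (s i))) := by
    constructor
    · exact hli.comp ULift.down ULift.down_injective
    · rw [← LinearMap.range_eq_top, Finsupp.range_linearCombination]
      rw [← hsp]
      congr 1
      ext x
      constructor
      · rintro ⟨i, rfl⟩
        exact ⟨i.down, rfl⟩
      · rintro ⟨i, rfl⟩
        exact ⟨⟨i⟩, rfl⟩
  obtain ⟨g, hg, h⟩ := exists_notMem_bijective p (fun i => D A B (s i)) hbij
  refine ⟨g, m, b, hg, ?_⟩
  let S := Localization.Away g
  let e := Finsupp.linearCombination B (fun i => D A B (s i))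
  let l₁ₜ : (ULift.{u} (ι ⊕ Fin m) →₀ B) →ₗ[B] (ULift.{u} (ι ⊕ Fin m) →₀ S) :=
    Finsupp.mapRange.linearMap (Algebra.linearMap B _)
  let l₂ₜ : Ω[B⁄A] →ₗ[B] Ω[S⁄A] := map A A B S
  rw [← IsLocalizedModule.map_bijective_iff_localizedModuleMap_bijective l₁ₜ l₂ₜ] at h
  let eₜ' : (ULift.{u} (ι ⊕ Fin m) →₀ S) →ₗ[S] Ω[S⁄A] :=
    IsLocalizedModule.mapExtendScalars (Submonoid.powers g) l₁ₜ l₂ₜ S e
  let bas : Module.Basis (ULift.{u} (ι ⊕ Fin m)) S Ω[S⁄A] := .ofRepr (LinearEquiv.ofBijective eₜ' h).symm
  have : Algebra.Smooth A S := Algebra.Smooth.comp A B S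
  have hbas : ∀ i, bas i = D A S (algebraMap B S (s i)) := by
    intro i
    have h6 : l₁ₜ (Finsupp.single i 1) = Finsupp.single i 1 := by simp [l₁ₜ]
    have h7 : IsLocalizedModule.map (Submonoid.powers g) l₁ₜ l₂ₜ e (l₁ₜ (Finsupp.single i 1)) =
        l₂ₜ (e (Finsupp.single i 1)) := IsLocalizedModule.map_apply _ _ _ _ _
    rw [h6] at h7
    have h8 : e (Finsupp.single i 1) = D A B (s i) := by simp [e]
    rw [h8] at h7
    have h9 : l₂ₜ (D A B (s i)) = D A S (algebraMap B S (s i)) := KaehlerDifferential.map_D _ _ _ _ _
    rw [h9] at h7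
    exact h7
  have h5 := Groth.Agent.Lefpen.H708.EtaleCoord.etale_of_basis A S
    (fun i : ι ⊕ Fin m => algebraMap B S (Sum.elim t b i)) (bas.reindex Equiv.ulift) (fun i => by
      rw [Module.Basis.reindex_apply, hbas]
      rfl)
  exact h5

end K27.Coord
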