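import Groth.Agent.Vanish.K27.JetMain

/-!
# Bertini with a base point: general members through a given point
-/

set_option autoImplicit false

universe u

open CategoryTheory CategoryTheory.Limits AlgebraicGeometry Opposite TopologicalSpace
open Groth.Agent.Fdesc.LocGen K27.SecScal K27.Crit K27.ChartBert K922.Coord K922.Chart K27.Main0 K27.Bert0
open K27.JetMain
open Groth.Agent.Sga67.Sec (resO)

namespace K27.JetBase

variable {k : Type u} [Field k] {X : Scheme.{u}} [X.Over (Spec (CommRingCat.of k))]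

/-- Membership in the support of the zero scheme in terms of the local equation. -/
theorem mem_support_iff_mem {L : X.Modules} (hL : PicF.IsInvertible L) (s : Coh.structureModule X ⟶ L)
    (W : X.affineOpens) {x : X} (hx : x ∈ W.1) {ε : Γ(L, W.1)} (hε : IsGen ε) {a : Γ(X, W.1)}
    (ha : sec s W.1 = a • ε) :
    x ∈ (PicF2.zeroScheme L s).support ↔ a ∈ (W.2.primeIdealOf ⟨x, hx⟩).asIdeal := by
  have h1 := mem_support_iff_span (PicF2.zeroScheme L s) W a
    (Groth.Agent.Pi1C.ZeroScheme.ideal_eq_span s hL W hε ha) x hx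
  rw [h1, mem_basicOpen_iff W hx, not_not]

/-- A linear condition at a point. -/
theorem exists_poly_linear (k B M : Type u) [Field k] [CommRing B] [Algebra k B] [AddCommGroup M] [Module k M]
    {ι : Type} [Fintype ι] (w : ι → B) (φ : B →ₗ[k] M) (i₀ : ι) (h : φ (w i₀) ≠ 0) :
    ∃ p : MvPolynomial ι k, p ≠ 0 ∧ ∀ c : ι → k, MvPolynomial.eval c p ≠ 0 → φ (∑ i, c i • w i) ≠ 0 := by
  classical
  let T : (ι → k) →ₗ[k] M := φ ∘ₗ (∑ i, (LinearMap.proj i).smulRight (w i))
  have hT : ∀ c, T c = φ (∑ i, c i • w i) := by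
    intro c
    simp [T]
  obtain ⟨p, hp, hp'⟩ := K27.NZD.exists_poly_of_subspace k (LinearMap.ker T) (by
    intro htop
    have h1 : (Pi.single i₀ 1 : ι → k) ∈ LinearMap.ker T := by rw [htop]; trivial
    rw [LinearMap.mem_ker, hT] at h1
    apply h
    have h2 : ∑ j, (Pi.single i₀ 1 : ι → k) j • w j = w i₀ := by
      simp [Pi.single_apply]
    rwa [h2] at h1)
  refine ⟨p, hp, fun c hc h0 => hc (hp' c ?_)⟩
  rw [LinearMap.mem_ker, hT]
  exact h0

/-- The general member avoids a point at which some section of the system is a generator. -/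
theorem exists_poly_notMem {L : X.Modules} (hL : PicF.IsInvertible L)
    {ι : Type} [Fintype ι] (s : ι → (Coh.structureModule X ⟶ L)) (x : X) (i₀ : ι)
    (hx : x ∉ (PicF2.zeroScheme L (s i₀)).support) :
    ∃ p : MvPolynomial ι k, p ≠ 0 ∧ ∀ c : ι → k, MvPolynomial.eval c p ≠ 0 →
      x ∉ (PicF2.zeroScheme L (member k s c)).support := by
  obtain ⟨U, hU, hxU, -, ε, hε⟩ := Groth.Agent.Pi1C.ZeroScheme.exists_affine_isGen hL ⊤ x trivial
  choose w hw using fun i => hε.exists_eq (sec (s i) U)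
  let P := (hU.primeIdealOf ⟨x, hxU⟩).asIdeal
  rw [mem_support_iff_mem hL (s i₀) ⟨U, hU⟩ hxU hε (hw i₀)] at hx
  let _ : Algebra k Γ(X, U) := (scal k U).toAlgebra
  obtain ⟨p, hp, h⟩ := exists_poly_linear k Γ(X, U) (Γ(X, U) ⧸ P) w (Ideal.Quotient.mkₐ k P).toLinearMap i₀ (by
    intro h0
    exact hx (Ideal.Quotient.eq_zero_iff_mem.mp h0))
  refine ⟨p, hp, fun c hc hmem => h c hc ?_⟩
  rw [mem_support_iff_mem hL (member k s c) ⟨U, hU⟩ hxU hε (sec_comb k s c w hw)] at hmem
  exact Ideal.Quotient.eq_zero_iff_mem.mpr hmem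

theorem exists_notMem_of_jetAt {L : X.Modules} (hL : PicF.IsInvertible L)
    {ι : Type} [Fintype ι] (s : ι → (Coh.structureModule X ⟶ L)) (x : X) (hx : JetAt k s x) :
    ∃ i, x ∉ (PicF2.zeroScheme L (s i)).support := by
  obtain ⟨W, ε, w, hxW, hε, hw, hj⟩ := hx
  by_contra hcon
  push Not at hcon
  let _ : Algebra k Γ(X, W.1) := (scal k W.1).toAlgebra
  have h1 : ∀ i, w i ∈ (W.2.primeIdealOf ⟨x, hxW⟩).asIdeal := fun i =>
    (mem_support_iff_mem hL (s i) W hxW hε (hw i)).mp (hcon i)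
  have h2 := congrArg (Submodule.map (LinearMap.fst Γ(X, W.1) Γ(X, W.1)
    (Ω[Γ(X, W.1)⁄k]))) (show Submodule.span Γ(X, W.1) (Set.range fun i =>
      (w i, KaehlerDifferential.D k Γ(X, W.1) (w i))) = ⊤ from hj)
  rw [Submodule.map_span, Submodule.map_top, LinearMap.range_eq_top.mpr LinearMap.fst_surjective,
    ← Set.range_comp] at h2
  have h3 : Submodule.span Γ(X, W.1) (Set.range w) ≤ (W.2.primeIdealOf ⟨x, hxW⟩).asIdeal := by
    rw [Submodule.span_le]
    rintro _ ⟨i, rfl⟩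
    exact h1 i
  have h4 : (1 : Γ(X, W.1)) ∈ Submodule.span Γ(X, W.1) (Set.range w) := by
    have h5 : (1 : Γ(X, W.1)) ∈ (⊤ : Submodule Γ(X, W.1) Γ(X, W.1)) := trivial
    rw [← h2] at h5
    exact h5
  exact (W.2.primeIdealOf ⟨x, hxW⟩).2.ne_top ((Ideal.eq_top_iff_one _).mpr (h3 h4))

/-- The general member of a system with a simple base point `q`. -/
theorem exists_poly_base [IsAlgClosed k] [Smooth (X ↘ Spec (CommRingCat.of k))] [NoetherianSpace X] {r : ℕ}
    {D : Fin r → X.IdealSheafData} (hD : LogNCD.IsNCD D (X ↘ Spec (CommRingCat.of k)))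
    {L : X.Modules} (hL : PicF.IsInvertible L) {ι : Type} [Fintype ι] (s : ι → (Coh.structureModule X ⟶ L))
    (q : X) (hqD : ∀ i, q ∉ (D i).support) (h1 : ∀ x, x ≠ q → JetAt k s x) (h2 : BaseAt k s q)
    (E : Finset X) (hE : q ∉ E) :
    ∃ p : MvPolynomial ι k, p ≠ 0 ∧ ∀ c : ι → k, MvPolynomial.eval c p ≠ 0 →
      LogNCD.IsNCD (snocD D (PicF2.zeroScheme L (member k s c))) (X ↘ Spec (CommRingCat.of k)) ∧
      q ∈ (PicF2.zeroScheme L (member k s c)).support ∧
      ∀ x ∈ E, x ∉ (PicF2.zeroScheme L (member k s c)).support := by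
  classical
  obtain ⟨p₁, hp₁, H₁⟩ := exists_poly_ncdAt hD hL s {x | x ≠ q} (NoetherianSpace.isCompact _) h1
  have h3 : ∀ x : E, ∃ p : MvPolynomial ι k, p ≠ 0 ∧ ∀ c : ι → k, MvPolynomial.eval c p ≠ 0 →
      x.1 ∉ (PicF2.zeroScheme L (member k s c)).support := by
    intro x
    have hxq : x.1 ≠ q := fun h => hE (h ▸ x.2)
    obtain ⟨i₀, hi₀⟩ := exists_notMem_of_jetAt hL s x.1 (h1 x.1 hxq)
    exact exists_poly_notMem hL s x.1 i₀ hi₀
  choose p₃ hp₃ H₃ using h3
  obtain ⟨W, hqW, ε, w, hε, hw, hwq, δ, i₀, hδ⟩ := h2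
  let _ : Algebra k Γ(X, W.1) := (scal k W.1).toAlgebra
  let P := (W.2.primeIdealOf ⟨q, hqW⟩).asIdeal
  obtain ⟨p₂, hp₂, H₂⟩ := exists_poly_linear k Γ(X, W.1) P.ResidueField w δ.toLinearMap i₀ hδ
  refine ⟨p₁ * p₂ * ∏ x, p₃ x, mul_ne_zero (mul_ne_zero hp₁ hp₂) (Finset.prod_ne_zero_iff.mpr fun x _ => hp₃ x),
    fun c hc => ?_⟩
  rw [map_mul, map_mul, map_prod] at hc
  have hc₁ := left_ne_zero_of_mul (left_ne_zero_of_mul hc)
  have hc₂ := right_ne_zero_of_mul (left_ne_zero_of_mul hc)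
  have hc₃ := Finset.prod_ne_zero_iff.mp (right_ne_zero_of_mul hc)
  have hmemb : sec (member k s c) W.1 = (∑ i, c i • w i) • ε := sec_comb k s c w hw
  have haP : ∑ i, c i • w i ∈ P := by
    refine Submodule.sum_mem _ fun i _ => ?_
    exact Ideal.mul_mem_left P (algebraMap k Γ(X, W.1) (c i)) (hwq i) |> fun h => by
      rwa [← Algebra.smul_def] at h
  refine ⟨?_, ?_, ?_⟩
  · apply isNCD_of_forall
    intro y
    by_cases hy : y = q
    · subst hy
      intro _
      set D' : Fin (r + 1) → X.IdealSheafData := snocD D (PicF2.zeroScheme L (member k s c)) with hD'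
      have hlast : ∀ i : LogNCD.Through D' y, i.1 = Fin.last r := by
        rintro ⟨i, hi⟩
        induction i using Fin.lastCases with
        | last => rfl
        | cast j =>
          exfalso
          apply hqD j
          simpa only [hD', snocD, Fin.snoc_castSucc] using hi
      refine ⟨W, ⟨⊤, isAffineOpen_top _⟩, le_top, hqW, fun _ => ∑ i, c i • w i, fun i => ?_, ?_⟩
      · rw [hlast i]
        simp only [hD', snocD, Fin.snoc_last]
        exact Groth.Agent.Pi1C.ZeroScheme.ideal_eq_span _ hL W hε hmemb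
      · let _ : Algebra Γ(Spec (CommRingCat.of k), ⊤) Γ(X, W.1) :=
          ((X ↘ Spec (CommRingCat.of k)).appLE ⊤ W.1 le_top).hom.toAlgebra
        let _ : Algebra k Γ(Spec (CommRingCat.of k), ⊤) := (ψ ⊤).toAlgebra
        have : IsScalarTower k Γ(Spec (CommRingCat.of k), ⊤) Γ(X, W.1) :=
          IsScalarTower.of_algebraMap_eq fun b => (appLE_ψ ⊤ W.1 le_top b).symm
        refine dualAt_of_surjective k P.ResidueField (ψ_bijective ⊤ rfl).surjective _ ?_
        have h5 : δ (∑ i, c i • w i) ≠ 0 := H₂ c hc₂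
        intro i
        refine ⟨(δ (∑ i, c i • w i))⁻¹ • δ, ?_, fun j hj => ?_⟩
        · rw [Derivation.smul_apply, smul_eq_mul, inv_mul_cancel₀ h5]
        · exact absurd (Subtype.ext ((hlast j).trans (hlast i).symm)) hj
    · exact H₁ c hc₁ y hy
  · exact (mem_support_iff_mem hL _ W hqW hε hmemb).mpr haP
  · intro x hx
    exact H₃ ⟨x, hx⟩ c (hc₃ ⟨x, hx⟩ (Finset.mem_univ _))

end K27.JetBase
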