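import Groth.Agent.Vanish.K27.JetPt
import Mathlib.Algebra.MvPolynomial.Funext

/-!
# Several general members
-/

set_option autoImplicit false

universe u

open CategoryTheory CategoryTheory.Limits AlgebraicGeometry Opposite TopologicalSpace
open Groth.Agent.Fdesc.LocGen K27.SecScal K27.JetMain K27.Main0 K27.JetSys K27.ChartBert K27.Bert0 K27.JetPt
open K922.Coord K922.Chart

namespace K27.JetMem

/-- Subfamilies of normal crossing divisors. -/
theorem isNCD_comp {X S : Scheme.{u}} {f : X ⟶ S} {r r' : ℕ} {D : Fin r → X.IdealSheafData} (hD : LogNCD.IsNCD D f)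
    (σ : Fin r' → Fin r) (hσ : Function.Injective σ) : LogNCD.IsNCD (fun i => D (σ i)) f := by
  intro x hx
  obtain ⟨⟨i₀, hi₀⟩⟩ := hx
  obtain ⟨W, hxW, n, v, e, he, het, h1, h2⟩ := hD x ⟨⟨σ i₀, hi₀⟩⟩
  refine ⟨W, hxW, n, v, fun i => e ⟨σ i.1, i.2⟩, ?_, het, fun i U h => h1 ⟨σ i.1, i.2⟩ U h, fun i hi U h => h2 (σ i) hi U h⟩
  intro i j hij
  have h3 := he hij
  have h4 : σ i.1 = σ j.1 := congrArg Subtype.val h3
  exact Subtype.ext (hσ h4)

/-- The components of a normal crossing divisor do not contain the generic point. -/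
theorem genericPoint_notMem {X S : Scheme.{u}} [IsIntegral X] {f : X ⟶ S} [Smooth f] {r : ℕ}
    {D : Fin r → X.IdealSheafData} (hD : LogNCD.IsNCD D f) (i : Fin r) : genericPoint X ∉ (D i).support := by
  obtain ⟨U, n, c, hxU, -⟩ := exists_chart hD (x := genericPoint X) (O := ⊤) trivial
  have hne : Nonempty U.1 := ⟨⟨_, hxU⟩⟩
  have h1 : (D i).ideal U = Ideal.span {c.g i} := by
    rw [c.ideal i U le_rfl, Groth.Agent.Sga67.Sec.resO_self]
  rw [mem_support_iff_span (D i) U _ h1 _ hxU, not_not]
  have h2 : c.g i ≠ 0 := by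
    have h3 := (c.isReg_g i).mem_nonZeroDivisors
    intro h0
    rw [h0] at h3
    exact zero_notMem_nonZeroDivisors h3
  have h3 : (X.basicOpen (c.g i) : Set X).Nonempty := by
    rw [Set.nonempty_iff_ne_empty]
    intro h0
    apply h2
    rw [← basicOpen_eq_bot_iff]
    exact Opens.ext h0
  exact (genericPoint_spec X).mem_open_set_iff (X.basicOpen (c.g i)).2 |>.mpr (by
    obtain ⟨y, hy⟩ := h3
    exact ⟨y, trivial, hy⟩)

variable {k : Type u} [Field k] {X : Scheme.{u}} [X.Over (Spec (CommRingCat.of k))]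

/-- Closed points avoiding a normal crossing divisor and finitely many closed points. -/
theorem exists_closed [Smooth (X ↘ Spec (CommRingCat.of k))] [IsIntegral X] [Nontrivial X] {r : ℕ}
    {D : Fin r → X.IdealSheafData} (hD : LogNCD.IsNCD D (X ↘ Spec (CommRingCat.of k))) (E : Set X) (hE : E.Finite)
    (hEc : ∀ x ∈ E, IsClosed {x}) : ∃ q : X, IsClosed {q} ∧ q ∉ E ∧ ∀ i, q ∉ (D i).support := by
  have hJ : JacobsonSpace X := LocallyOfFiniteType.jacobsonSpace (X ↘ Spec (CommRingCat.of k))
  let Z : Set X := Eᶜ ∩ ⋂ i, ((D i).support : Set X)ᶜ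
  have hη : genericPoint X ∉ E := by
    intro h
    have h7 : closure {genericPoint X} = (Set.univ : Set X) := genericPoint_spec X
    rw [(hEc _ h).closure_eq] at h7
    obtain ⟨y, hy⟩ := exists_ne (genericPoint X)
    exact hy (show y ∈ ({genericPoint X} : Set X) by rw [h7]; trivial)
  have hZo : IsOpen Z := by
    refine IsOpen.inter ?_ (isOpen_iInter_of_finite fun i => (D i).support.isClosed.isOpen_compl)
    rw [isOpen_compl_iff, ← Set.biUnion_of_singleton E]
    exact hE.isClosed_biUnion hEc
  obtain ⟨q, hq, hqc⟩ := nonempty_inter_closedPoints (Z := Z)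
    ⟨genericPoint X, hη, Set.mem_iInter.mpr fun i => genericPoint_notMem hD i⟩ hZo.isLocallyClosed
  exact ⟨q, hqc, hq.1, fun i => Set.mem_iInter.mp hq.2 i⟩

/-- Many closed points avoiding a normal crossing divisor. -/
theorem exists_points [Smooth (X ↘ Spec (CommRingCat.of k))] [IsIntegral X] [Nontrivial X] {r : ℕ}
    {D : Fin r → X.IdealSheafData} (hD : LogNCD.IsNCD D (X ↘ Spec (CommRingCat.of k))) (E : Set X) (hE : E.Finite)
    (hEc : ∀ x ∈ E, IsClosed {x}) (n : ℕ) :
    ∃ q : Fin n → X, Function.Injective q ∧ ∀ j, IsClosed {q j} ∧ q j ∉ E ∧ ∀ i, q j ∉ (D i).support := by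
  induction n with
  | zero => exact ⟨fun i => i.elim0, fun i => i.elim0, fun i => i.elim0⟩
  | succ n ih =>
    obtain ⟨q, hq, h⟩ := ih
    obtain ⟨q', hq'c, hq'E, hq'D⟩ := exists_closed hD (E ∪ Set.range q) (hE.union (Set.finite_range q)) (by
      rintro x (hx | ⟨j, rfl⟩)
      · exact hEc x hx
      · exact (h j).1)
    refine ⟨Fin.snoc (α := fun _ => X) q q', ?_, fun j => ?_⟩
    · rw [Fin.snoc_injective_iff]
      exact ⟨hq, fun h => hq'E (Or.inr h)⟩
    · refine Fin.lastCases ?_ (fun j => ?_) j
      · simp only [Fin.snoc_last]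
        exact ⟨hq'c, fun h => hq'E (Or.inl h), hq'D⟩
      · simp only [Fin.snoc_castSucc]
        exact h j

/-- Several general members, each passing through one prescribed point and avoiding the others. -/
theorem exists_members_of_base [IsAlgClosed k] [Smooth (X ↘ Spec (CommRingCat.of k))] [NoetherianSpace X]
    {L : X.Modules} (hL : PicF.IsInvertible L) {r : ℕ}
    {D : Fin r → X.IdealSheafData} (hD : LogNCD.IsNCD D (X ↘ Spec (CommRingCat.of k))) (n : ℕ) :
    ∀ (q : Fin n → X) (_ : Function.Injective q) (_ : ∀ j i, q j ∉ (D i).support) (E : Finset X) (_ : ∀ j, q j ∉ E)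
      (_ : ∀ j, ∃ (N : ℕ) (s : Fin N → (Coh.structureModule X ⟶ L)), (∀ x, x ≠ q j → JetAt k s x) ∧ BaseAt k s (q j)),
      ∃ s : Fin n → (Coh.structureModule X ⟶ L),
        LogNCD.IsNCD (Fin.append D (fun j => PicF2.zeroScheme L (s j))) (X ↘ Spec (CommRingCat.of k)) ∧
        (∀ j, q j ∈ (PicF2.zeroScheme L (s j)).support) ∧
        (∀ j, ∀ x ∈ E, x ∉ (PicF2.zeroScheme L (s j)).support) ∧
        (∀ i j, i ≠ j → q i ∉ (PicF2.zeroScheme L (s j)).support) := by
  classical
  induction n with
  | zero =>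
    intro q _ _ E _ _
    refine ⟨fun i => i.elim0, ?_, fun i => i.elim0, fun i => i.elim0, fun i => i.elim0⟩
    have h1 : Fin.append D (fun j : Fin 0 => PicF2.zeroScheme L (j.elim0)) = D := by
      funext i
      have h2 : i = Fin.castAdd 0 i := rfl
      rw [h2, Fin.append_left]
      rfl
    rw [h1]
    exact hD
  | succ n ih =>
    intro q hq hqD E hE H
    have hinj : Function.Injective (fun j : Fin n => q j.castSucc) := fun a b h => Fin.castSucc_injective n (hq h)
    obtain ⟨s, hs, hs1, hs2, hs3⟩ := ih (fun j => q j.castSucc) hinj (fun j i => hqD _ i)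
      (insert (q (Fin.last n)) E) (fun j h => by
        rcases Finset.mem_insert.mp h with h | h
        · exact (Fin.castSucc_lt_last j).ne (hq h)
        · exact hE _ h) (fun j => H _)
    obtain ⟨N, t, ht1, ht2⟩ := H (Fin.last n)
    obtain ⟨p, hp, h⟩ := K27.JetBase.exists_poly_base hs hL t (q (Fin.last n)) (fun i => by
        refine Fin.addCases (fun i => ?_) (fun i => ?_) i
        · rw [Fin.append_left]; exact hqD _ i
        · rw [Fin.append_right]; exact hs2 i _ (Finset.mem_insert_self _ _)) ht1 ht2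
      (E ∪ Finset.univ.image (fun j : Fin n => q j.castSucc)) (by
        rw [Finset.mem_union, Finset.mem_image]
        rintro (h | ⟨j, -, h⟩)
        · exact hE _ h
        · exact (Fin.castSucc_lt_last j).ne (hq h))
    obtain ⟨c, hc⟩ : ∃ c : Fin N → k, MvPolynomial.eval c p ≠ 0 := by
      by_contra hcon
      push Not at hcon
      exact hp (MvPolynomial.funext fun c => by rw [hcon, map_zero])
    obtain ⟨h1, h2, h3⟩ := h c hc
    refine ⟨Fin.snoc (α := fun _ => Coh.structureModule X ⟶ L) s (member k t c), ?_, ?_, ?_, ?_⟩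
    · have h4 : Fin.append D (fun j => PicF2.zeroScheme L
          (Fin.snoc (α := fun _ => Coh.structureModule X ⟶ L) s (member k t c) j)) =
          snocD (Fin.append D (fun j => PicF2.zeroScheme L (s j))) (PicF2.zeroScheme L (member k t c)) := by
        funext i
        refine Fin.addCases (fun i => ?_) (fun i => ?_) i
        · rw [Fin.append_left]
          have h5 : Fin.castAdd (n + 1) i = Fin.castSucc (Fin.castAdd n i) := rfl
          rw [h5, snocD, Fin.snoc_castSucc, Fin.append_left]
        · rw [Fin.append_right]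
          refine Fin.lastCases ?_ (fun i => ?_) i
          · have h5 : Fin.natAdd r (Fin.last n) = Fin.last (r + n) := rfl
            rw [h5, snocD, Fin.snoc_last, Fin.snoc_last]
          · have h5 : Fin.natAdd r (Fin.castSucc i) = Fin.castSucc (Fin.natAdd r i) := rfl
            rw [h5, snocD, Fin.snoc_castSucc, Fin.snoc_castSucc, Fin.append_right]
      rw [h4]
      exact h1
    · intro j
      refine Fin.lastCases ?_ (fun j => ?_) j
      · rw [Fin.snoc_last]; exact h2
      · rw [Fin.snoc_castSucc]; exact hs1 j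
    · intro j x hx
      refine Fin.lastCases ?_ (fun j => ?_) j
      · rw [Fin.snoc_last]; exact h3 x (Finset.mem_union_left _ hx)
      · rw [Fin.snoc_castSucc]; exact hs2 j x (Finset.mem_insert_of_mem hx)
    · intro i j
      refine Fin.lastCases ?_ (fun j => ?_) j
      · intro hij
        rw [Fin.snoc_last]
        refine Fin.lastCases (fun h => absurd rfl h) (fun i _ => ?_) i hij
        exact h3 _ (Finset.mem_union_right _ (Finset.mem_image.mpr ⟨i, Finset.mem_univ _, rfl⟩))
      · rw [Fin.snoc_castSucc]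
        refine Fin.lastCases (fun _ => ?_) (fun i hij => ?_) i
        · exact hs2 j _ (Finset.mem_insert_self _ _)
        · exact hs3 i j fun h => hij (by rw [h])

/-- **Bertini's theorem with normal crossings for twists by large powers of an ample module**, in any characteristic:
for all large `m` there are `n` sections of `M ⊗ A^m` whose zero schemes form with `D` a normal crossing divisor; the
zero scheme of each of them contains a point in no other component (in particular it is not empty). -/
theorem exists_members [IsAlgClosed k] [Smooth (X ↘ Spec (CommRingCat.of k))] [QuasiSeparatedSpace X] [IsIntegral X]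
    [Nontrivial X] {A M : X.Modules} (hA : CohB1.IsAmple A) (hM : PicF.IsInvertible M) {r : ℕ}
    {D : Fin r → X.IdealSheafData} (hD : LogNCD.IsNCD D (X ↘ Spec (CommRingCat.of k))) (n : ℕ) :
    ∃ m₀ : ℕ, ∀ m, m₀ ≤ m → ∃ s : Fin n → (Coh.structureModule X ⟶ CohB1.tensorMod M (CohB1.tensorPow A m)),
      LogNCD.IsNCD (Fin.append D (fun j => PicF2.zeroScheme _ (s j))) (X ↘ Spec (CommRingCat.of k)) ∧
      ∀ j, ∃ q : X, IsClosed {q} ∧ q ∈ (PicF2.zeroScheme _ (s j)).support ∧ (∀ i, q ∉ (D i).support) ∧
        ∀ i, i ≠ j → q ∉ (PicF2.zeroScheme _ (s i)).support := by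
  have hcomp : CompactSpace X := hA.2.1
  have hloc : IsLocallyNoetherian X := LocallyOfFiniteType.isLocallyNoetherian (X ↘ Spec (CommRingCat.of k))
  have hnoeth : IsNoetherian X := {}
  obtain ⟨q, hq, hq'⟩ := exists_points hD ∅ Set.finite_empty (fun _ h => absurd h (Set.notMem_empty _)) n
  choose m₀ hm₀ using fun j => exists_base (k := k) hA hM (q j) (hq' j).1
  refine ⟨Finset.univ.sup m₀, fun m hm => ?_⟩
  obtain ⟨s, hs, h1, -, h3⟩ := exists_members_of_base (k := k)
    (isInvertible_tensorMod hM (isInvertible_tensorPow hA.1 m)) hD n q hq (fun j => (hq' j).2.2) ∅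
    (fun _ => Finset.notMem_empty _) (fun j => hm₀ j m ((Finset.le_sup (Finset.mem_univ j)).trans hm))
  exact ⟨s, hs, fun j => ⟨q j, (hq' j).1, h1 j, (hq' j).2.2, fun i hi => h3 j i hi.symm⟩⟩

end K27.JetMem
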