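import Groth.Agent.Vanish.K27.Main0

/-!
# Bertini's theorem with normal crossings, characteristic zero
-/

set_option autoImplicit false

universe u

open CategoryTheory CategoryTheory.Limits AlgebraicGeometry Opposite TopologicalSpace
open Groth.Agent.Fdesc.LocGen K27.SecScal K27.Crit K27.ChartBert K922.Coord K922.Chart K27.Main0
open Groth.Agent.Sga67.Sec (resO)

namespace K27.Bert0

variable {k : Type u} [Field k] {X : Scheme.{u}} [X.Over (Spec (CommRingCat.of k))]

/-- The member with coefficients `c` of the linear system spanned by the sections `s`. -/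
noncomputable abbrev member (k : Type u) [Field k] {X : Scheme.{u}} [X.Over (Spec (CommRingCat.of k))]
    {L : X.Modules} {ι : Type} [Fintype ι] (s : ι → (Coh.structureModule X ⟶ L)) (c : ι → k) :
    Coh.structureModule X ⟶ L :=
  ∑ i, Formal.smulMod k (Coh.structureModule X) (c i) ≫ s i

/-- The family `D` with one more member. -/
noncomputable abbrev snocD {X : Scheme.{u}} {r : ℕ} (D : Fin r → X.IdealSheafData) (E : X.IdealSheafData) :
    Fin (r + 1) → X.IdealSheafData :=
  Fin.snoc (α := fun _ => X.IdealSheafData) D E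

/-- The generators of the unit ideal given by sections without common zero. -/
theorem span_eq_top {L : X.Modules} (hL : PicF.IsInvertible L) {ι : Type} (s : ι → (Coh.structureModule X ⟶ L))
    (hgen : ⨆ i, PicF2.zeroScheme L (s i) = ⊤) (W : X.affineOpens) {ε : Γ(L, W.1)} (hε : IsGen ε)
    (w : ι → Γ(X, W.1)) (hw : ∀ i, sec (s i) W.1 = w i • ε) : Ideal.span (Set.range w) = ⊤ := by
  have h1 := congrArg (fun I : X.IdealSheafData => I.ideal W) hgen
  simp only [Scheme.IdealSheafData.ideal_iSup, iSup_apply, Scheme.IdealSheafData.ideal_top] at h1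
  rw [← Set.iUnion_singleton_eq_range, Ideal.span_iUnion]
  rw [Pi.top_apply] at h1
  rw [← h1]
  exact iSup_congr fun i => (Groth.Agent.Pi1C.ZeroScheme.ideal_eq_span (s i) hL W hε (hw i)).symm

/-- Bertini near a point. -/
theorem exists_local [CharZero k] [Smooth (X ↘ Spec (CommRingCat.of k))] {r : ℕ} {D : Fin r → X.IdealSheafData}
    (hD : LogNCD.IsNCD D (X ↘ Spec (CommRingCat.of k))) {L : X.Modules} (hL : PicF.IsInvertible L)
    {ι : Type} [Fintype ι] (s : ι → (Coh.structureModule X ⟶ L)) (hgen : ⨆ i, PicF2.zeroScheme L (s i) = ⊤) (x : X) :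
    ∃ (W : X.Opens) (p : MvPolynomial ι k), x ∈ W ∧ p ≠ 0 ∧ ∀ c : ι → k, MvPolynomial.eval c p ≠ 0 →
      ∀ y ∈ W, NcdAt (X ↘ Spec (CommRingCat.of k)) (snocD D (PicF2.zeroScheme L (member k s c))) y := by
  obtain ⟨W, V, e, n, c, ε, hxW, hε, het⟩ := exists_chart' (X ↘ Spec (CommRingCat.of k)) hD hL x
  have hV : V.1 = ⊤ := eq_top_of_mem V.1 ((X ↘ Spec (CommRingCat.of k)) x) (e hxW)
  choose w hw using fun i => hε.exists_eq (sec (s i) W.1)
  have hspan := span_eq_top hL s hgen W hε w hw
  let _ : Algebra k Γ(X, W.1) := (scal k W.1).toAlgebra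
  have het' := etale_k W V e c het hV
  obtain ⟨p, hp, h⟩ := exists_poly_charZero k Γ(X, W.1) c.v het' w hspan
  refine ⟨W.1, p, hxW, hp, fun a ha y hy => ?_⟩
  exact ncdAt hL W V e c het ε hε (member k s a) (∑ i, a i • w i) (sec_comb k s a w hw) (h a ha) y hy

/-- Bertini's theorem with normal crossings in characteristic zero: the general member of a linear system without base
points is smooth and crosses a given normal crossing divisor normally. -/
theorem exists_poly_isNCD [CharZero k] [Smooth (X ↘ Spec (CommRingCat.of k))] [CompactSpace X] {r : ℕ}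
    {D : Fin r → X.IdealSheafData}
    (hD : LogNCD.IsNCD D (X ↘ Spec (CommRingCat.of k))) {L : X.Modules} (hL : PicF.IsInvertible L)
    {ι : Type} [Fintype ι] (s : ι → (Coh.structureModule X ⟶ L)) (hgen : ⨆ i, PicF2.zeroScheme L (s i) = ⊤) :
    ∃ p : MvPolynomial ι k, p ≠ 0 ∧ ∀ c : ι → k, MvPolynomial.eval c p ≠ 0 →
      LogNCD.IsNCD (snocD D (PicF2.zeroScheme L (member k s c))) (X ↘ Spec (CommRingCat.of k)) := by
  classical
  choose W p hxW hp h using exists_local hD hL s hgen
  obtain ⟨J, hJ⟩ := isCompact_univ.elim_finite_subcover (fun x => (W x : Set X)) (fun x => (W x).2)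
    (fun x _ => Set.mem_iUnion.mpr ⟨x, hxW x⟩)
  refine ⟨∏ x ∈ J, p x, Finset.prod_ne_zero_iff.mpr fun x _ => hp x, fun c hc => ?_⟩
  rw [map_prod, Finset.prod_ne_zero_iff] at hc
  apply isNCD_of_forall
  intro y
  obtain ⟨x, hxJ, hy⟩ := Set.mem_iUnion₂.mp (hJ (Set.mem_univ y))
  exact h x c (hc x hxJ) y hy

end K27.Bert0
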