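import Groth.Agent.CalgC.RegSmooth
import Mathlib.RingTheory.EssentialFiniteness
import Mathlib.RingTheory.Smooth.Locus
import Mathlib.FieldTheory.Perfect
import Mathlib.RingTheory.Localization.FractionRing
import Mathlib.RingTheory.Unramified.Locus

/-!
# Generic smoothness in characteristic zero, for rings
-/

set_option autoImplicit false

universe u v

open IsLocalRing

namespace K27.GenRing

/-- A regular local ring which is essentially of finite type over a perfect field is formally smooth. -/
theorem formallySmooth_of_perfectField (K : Type u) (R : Type v) [Field K] [PerfectField K] [CommRing R]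
    [Algebra K R] [Algebra.EssFiniteType K R] [hR : IsRegularLocalRing R] : Algebra.FormallySmooth K R := by
  let S := Algebra.EssFiniteType.subalgebra K R
  let M := Algebra.EssFiniteType.submonoid K R
  have : Algebra.FiniteType K S := inferInstance
  have hloc : IsLocalization M R := inferInstance
  let q : Ideal S := (maximalIdeal R).comap (algebraMap S R)
  have hq : q.IsPrime := Ideal.comap_isPrime _ _
  have hq' : IsLocalization q.primeCompl R := by
    refine IsLocalization.of_le (M := M) q.primeCompl ?_ ?_
    · intro s hs h
      exact h (IsLocalization.map_units R ⟨s, hs⟩)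
    · intro s hs
      by_contra h
      exact hs h
  let e : Localization.AtPrime q ≃ₐ[S] R := IsLocalization.algEquiv q.primeCompl _ _
  let e' : Localization.AtPrime q ≃ₐ[K] R := e.restrictScalars K
  have hreg : IsRegularLocalRing (Localization.AtPrime q) := IsRegularLocalRing.of_ringEquiv e.symm.toRingEquiv
  have := (Groth.Agent.CalgC.RegSmooth.isSmoothAt_iff_isRegularLocalRing_of_perfectField (k := K) q).mpr hreg
  exact Algebra.FormallySmooth.of_equiv e'

/-- Points over the generic point with regular local ring are smooth points, if the fraction field is perfect. -/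
theorem isSmoothAt_of_comap_eq_bot (R : Type u) (C : Type v) [CommRing R] [IsDomain R] [PerfectField (FractionRing R)]
    [CommRing C] [Algebra R C] [Algebra.FiniteType R C] (P : Ideal C) [P.IsPrime]
    (hP : P.comap (algebraMap R C) = ⊥) [IsRegularLocalRing (Localization.AtPrime P)] : Algebra.IsSmoothAt R P := by
  let K := FractionRing R
  have h1 : ∀ y : nonZeroDivisors R, IsUnit (algebraMap R (Localization.AtPrime P) y) := by
    intro y
    rw [IsScalarTower.algebraMap_apply R C (Localization.AtPrime P)]
    refine IsLocalization.map_units (M := P.primeCompl) (Localization.AtPrime P) ⟨algebraMap R C y, ?_⟩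
    intro hy
    have h2 : (y : R) ∈ P.comap (algebraMap R C) := hy
    rw [hP, Ideal.mem_bot] at h2
    exact nonZeroDivisors.coe_ne_zero y h2
  let _ : Algebra K (Localization.AtPrime P) := (IsLocalization.lift (M := nonZeroDivisors R) h1).toAlgebra
  have : IsScalarTower R K (Localization.AtPrime P) := IsScalarTower.of_algebraMap_eq fun r => by
    change _ = IsLocalization.lift (M := nonZeroDivisors R) h1 (algebraMap R K r)
    rw [IsLocalization.lift_eq]
  have : Algebra.EssFiniteType C (Localization.AtPrime P) := .of_isLocalization _ P.primeCompl
  have : Algebra.EssFiniteType R (Localization.AtPrime P) := Algebra.EssFiniteType.comp R C _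
  have : Algebra.EssFiniteType K (Localization.AtPrime P) := Algebra.EssFiniteType.of_comp R K _
  have h3 := formallySmooth_of_perfectField K (Localization.AtPrime P)
  have h4 : Algebra.FormallySmooth R K := Algebra.FormallySmooth.of_isLocalization (nonZeroDivisors R)
  exact Algebra.FormallySmooth.comp R K (Localization.AtPrime P)

/-- Generic smoothness: a finitely presented algebra over a domain with perfect fraction field whose local rings over the
generic point are regular is smooth after inverting a nonzero element of the base. -/
theorem exists_smooth (R : Type u) (C : Type v) [CommRing R] [IsDomain R] [PerfectField (FractionRing R)]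
    [CommRing C] [Algebra R C] [Algebra.FinitePresentation R C]
    (hreg : ∀ (P : Ideal C) [P.IsPrime], P.comap (algebraMap R C) = ⊥ → IsRegularLocalRing (Localization.AtPrime P)) :
    ∃ p : R, p ≠ 0 ∧ Algebra.Smooth R (Localization.Away (algebraMap R C p)) := by
  obtain ⟨J, hJ⟩ := (PrimeSpectrum.isClosed_iff_zeroLocus_ideal _).mp
    (Algebra.isOpen_smoothLocus (R := R) (A := C)).isClosed_compl
  by_cases h : ∃ p : R, p ≠ 0 ∧ algebraMap R C p ∈ J
  · obtain ⟨p, hp, hpJ⟩ := h
    refine ⟨p, hp, ?_⟩
    rw [← Algebra.basicOpen_subset_smoothLocus_iff_smooth]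
    intro x hx
    by_contra hx'
    have h1 : x ∈ PrimeSpectrum.zeroLocus (J : Set C) := by rw [← hJ]; exact hx'
    exact hx (h1 hpJ)
  · exfalso
    push Not at h
    let M : Submonoid C := (nonZeroDivisors R).map (algebraMap R C)
    have hM : Disjoint (J : Set C) (M : Set C) := by
      rw [Set.disjoint_left]
      rintro _ hx ⟨y, hy, rfl⟩
      exact h y (nonZeroDivisors.ne_zero hy) hx
    obtain ⟨P, hP, hJP, hPM⟩ := Ideal.exists_le_prime_disjoint J M hM
    have hbot : P.comap (algebraMap R C) = ⊥ := by
      rw [eq_bot_iff]
      intro y hy
      by_contra hy0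
      have : algebraMap R C y ∈ M := ⟨y, mem_nonZeroDivisors_of_ne_zero hy0, rfl⟩
      exact Set.disjoint_left.mp hPM hy this
    have := hreg P hbot
    have h1 := isSmoothAt_of_comap_eq_bot R C P hbot
    have h2 : (⟨P, hP⟩ : PrimeSpectrum C) ∈ (Algebra.smoothLocus R C)ᶜ := by
      rw [hJ]
      exact hJP
    exact h2 h1

end K27.GenRing
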