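import Groth.Agent.Vanish.K27.Strata
import Groth.Agent.Lefpen.H708.BertiniAlg
import Groth.Agent.FlatB.AffSpaceSmooth
import Mathlib.RingTheory.RingHom.LocallyStandardSmooth

/-!
# Bertini's theorem with normal crossings on an affine chart, for systems separating first order jets
-/

set_option autoImplicit false

universe u v w

open TensorProduct KaehlerDifferential K27.Dual K27.ChartBert

namespace K27.JetBert

/-- Coordinate subspaces are étale over the affine space of the remaining coordinates. -/
theorem etale_quotient_coord (A B : Type u) [CommRing A] [CommRing B] [Algebra A B] {σ : Type} [Finite σ] (v : σ → B)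
    (h : (MvPolynomial.eval₂Hom (algebraMap A B) v).Etale) (K : Set σ) :
    (MvPolynomial.eval₂Hom (algebraMap A (B ⧸ Ideal.span (Set.range fun j : K => v j)))
      (fun j : (Kᶜ : Set σ) => Ideal.Quotient.mk (Ideal.span (Set.range fun j : K => v j)) (v j))).Etale := by
  classical
  have hsm := smooth_quotient_coord A B v h K
  let P := MvPolynomial σ A
  let Q := MvPolynomial (Kᶜ : Set σ) A
  let J := Ideal.span (Set.range fun j : K => v j)
  let C := B ⧸ J
  let _ : Algebra P B := (MvPolynomial.eval₂Hom (algebraMap A B) v).toAlgebra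
  have hP : Algebra.Etale P B := h
  have : IsScalarTower A P B := IsScalarTower.of_algebraMap_eq fun a => by
    change _ = MvPolynomial.eval₂Hom (algebraMap A B) v (MvPolynomial.C a)
    simp
  have hX : ∀ j, algebraMap P B (MvPolynomial.X j) = v j := fun j => by
    change MvPolynomial.eval₂Hom (algebraMap A B) v (MvPolynomial.X j) = v j
    simp
  let _ : Algebra Q C := (MvPolynomial.eval₂Hom (algebraMap A C)
      (fun j : (Kᶜ : Set σ) => Ideal.Quotient.mk J (v j))).toAlgebra
  have hQX : ∀ j, algebraMap Q C (MvPolynomial.X j) = Ideal.Quotient.mk J (v j) := fun j => by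
    change MvPolynomial.eval₂Hom (algebraMap A C) _ (MvPolynomial.X j) = _
    simp
  have : IsScalarTower A Q C := IsScalarTower.of_algebraMap_eq fun a => by
    change _ = MvPolynomial.eval₂Hom (algebraMap A C) _ (MvPolynomial.C a)
    simp
  have hfp : Algebra.FinitePresentation Q C :=
    Algebra.FinitePresentation.of_restrict_scalars_finitePresentation A Q C
  have hv0 : ∀ j ∈ K, Ideal.Quotient.mk J (v j) = 0 := fun j hj =>
    Ideal.Quotient.eq_zero_iff_mem.mpr (Ideal.subset_span ⟨⟨j, hj⟩, rfl⟩)
  suffices hfe : Algebra.FormallyEtale Q C from ⟨hfe, hfp⟩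
  let ρ : P →ₐ[A] Q := MvPolynomial.aeval (fun j => if hj : j ∈ K then 0 else MvPolynomial.X ⟨j, hj⟩)
  have hρ0 : ∀ j ∈ K, ρ (MvPolynomial.X j) = 0 := fun j hj =>
    (MvPolynomial.aeval_X _ j).trans (dif_pos hj)
  have hρ1 : ∀ j (hj : j ∉ K), ρ (MvPolynomial.X j) = MvPolynomial.X ⟨j, hj⟩ := fun j hj =>
    (MvPolynomial.aeval_X _ j).trans (dif_neg hj)
  have hρC : ∀ q, algebraMap Q C (ρ q) = Ideal.Quotient.mk J (algebraMap P B q) := by
    intro q
    have h1 : (algebraMap Q C).comp (ρ : P →+* Q) = (Ideal.Quotient.mk J).comp (algebraMap P B) := by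
      apply MvPolynomial.ringHom_ext
      · intro r
        change algebraMap Q C (ρ (algebraMap A P r)) = Ideal.Quotient.mk J (algebraMap P B (algebraMap A P r))
        rw [ρ.commutes, ← IsScalarTower.algebraMap_apply A Q C, ← IsScalarTower.algebraMap_apply A P B]
        rfl
      · intro j
        simp only [RingHom.comp_apply, RingHom.coe_coe]
        rw [hX]
        by_cases hj : j ∈ K
        · rw [hρ0 j hj, map_zero, hv0 j hj]
        · rw [hρ1 j hj, hQX]
    exact congr($h1 q)
  rw [Algebra.FormallyEtale.iff_comp_bijective]
  intro T _ _ I hI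
  let _ : Algebra P T := ((algebraMap Q T).comp (ρ : P →+* Q)).toAlgebra
  have hPT : ∀ q : P, algebraMap P T q = algebraMap Q T (ρ q) := fun q => rfl
  -- restriction of a `Q`-algebra map along `B → C`
  let rs : (C →ₐ[Q] T) → (B →ₐ[P] T) := fun γ =>
    { (γ : C →+* T).comp (Ideal.Quotient.mk J) with
      commutes' := fun q => by
        change γ (Ideal.Quotient.mk J (algebraMap P B q)) = _
        rw [← hρC, γ.commutes]
        rfl }
  constructor
  · intro γ γ' hγ
    have h1 : rs γ = rs γ' := by
      apply (Algebra.FormallyEtale.comp_bijective P B I hI).1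
      apply AlgHom.ext
      intro b
      exact congr($hγ (Ideal.Quotient.mk J b))
    apply AlgHom.ext
    intro x
    obtain ⟨b, rfl⟩ := Ideal.Quotient.mk_surjective x
    exact congr($h1 b)
  · intro g
    let g' : B →ₐ[P] T ⧸ I :=
      { (g : C →+* T ⧸ I).comp (Ideal.Quotient.mk J) with
        commutes' := fun q => by
          change g (Ideal.Quotient.mk J (algebraMap P B q)) = _
          rw [← hρC, g.commutes]
          rfl }
    obtain ⟨h', hh'⟩ := (Algebra.FormallyEtale.comp_bijective P B I hI).2 g'
    have hh : ∀ x : B, Ideal.Quotient.mk I (h' x) = g (Ideal.Quotient.mk J x) := fun x => congr($hh' x)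
    have hle : ∀ x ∈ J, (h' : B →+* T) x = 0 := by
      intro x hx
      have h2 : J ≤ RingHom.ker (h' : B →+* T) := by
        rw [Ideal.span_le]
        rintro _ ⟨j, rfl⟩
        change h' (v j) = 0
        rw [← hX, h'.commutes, hPT, hρ0 _ j.2, map_zero]
      exact h2 hx
    let γ : C →ₐ[Q] T :=
      { Ideal.Quotient.lift J (h' : B →+* T) hle with
        commutes' := by
          intro q
          have h3 : (Ideal.Quotient.lift J (h' : B →+* T) hle).comp (algebraMap Q C) = algebraMap Q T := by
            apply MvPolynomial.ringHom_ext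
            · intro r
              change Ideal.Quotient.lift J (h' : B →+* T) hle (algebraMap Q C (algebraMap A Q r)) =
                algebraMap Q T (algebraMap A Q r)
              rw [← IsScalarTower.algebraMap_apply A Q C]
              change h' (algebraMap A B r) = _
              rw [IsScalarTower.algebraMap_apply A P B, h'.commutes, hPT, ρ.commutes]
            · intro j
              simp only [RingHom.comp_apply]
              rw [hQX]
              change h' (v j) = _
              rw [← hX, h'.commutes, hPT, hρ1 _ j.2]
          exact congr($h3 q) }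
    refine ⟨γ, ?_⟩
    apply AlgHom.ext
    intro x
    obtain ⟨b, rfl⟩ := Ideal.Quotient.mk_surjective x
    exact hh b

/-- An algebra étale over a polynomial ring is standard smooth of the expected relative dimension. -/
theorem isStandardSmooth_of_etale (A C : Type u) [CommRing A] [CommRing C] [Algebra A C] {τ : Type} [Fintype τ]
    (v : τ → C) (h : (MvPolynomial.eval₂Hom (algebraMap A C) v).Etale) :
    Algebra.IsStandardSmoothOfRelativeDimension (Fintype.card τ) A C := by
  let e : Fin (Fintype.card τ) ≃ τ := (Fintype.equivFin τ).symm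
  let P := MvPolynomial (Fin (Fintype.card τ)) A
  have h' : (MvPolynomial.eval₂Hom (algebraMap A C) (fun i => v (e i))).Etale := by
    have h1 : MvPolynomial.eval₂Hom (algebraMap A C) (fun i => v (e i)) =
        (MvPolynomial.eval₂Hom (algebraMap A C) v).comp (MvPolynomial.renameEquiv A e).toRingEquiv.toRingHom := by
      apply MvPolynomial.ringHom_ext
      · intro r
        simp
      · intro j
        simp
    rw [h1]
    exact RingHom.Etale.respectsIso.2 _ _ h
  let _ : Algebra P C := (MvPolynomial.eval₂Hom (algebraMap A C) (fun i => v (e i))).toAlgebra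
  have hP : Algebra.Etale P C := h'
  have : IsScalarTower A P C := IsScalarTower.of_algebraMap_eq fun a => by
    change _ = MvPolynomial.eval₂Hom (algebraMap A C) _ (MvPolynomial.C a)
    simp
  have h1 := Groth.Agent.FlatB.AffSpaceSmooth.isStandardSmoothOfRelativeDimension A (Fintype.card τ)
  have h2 : Algebra.IsStandardSmoothOfRelativeDimension 0 P C :=
    Algebra.Etale.iff_isStandardSmoothOfRelativeDimension_zero.mp hP
  have h3 := Algebra.IsStandardSmoothOfRelativeDimension.trans (n := Fintype.card τ) (m := 0) A P C
  rwa [zero_add] at h3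

/-- Bertini on an affine chart for systems separating first order jets. -/
theorem gen_of_jets (k C : Type u) [Field k] [IsAlgClosed k] [CommRing C] [Algebra k C] {τ : Type} [Fintype τ]
    (v : τ → C) (h : (MvPolynomial.eval₂Hom (algebraMap k C) v).Etale) {ι : Type} [Fintype ι] (w : ι → C)
    (hw : Submodule.span C (Set.range fun α => (w α, D k C (w α))) = ⊤) : Gen k C w := by
  have h1 := isStandardSmooth_of_etale k C v h
  have hss : Algebra.IsStandardSmooth k C :=
    Algebra.IsStandardSmoothOfRelativeDimension.isStandardSmooth (Fintype.card τ)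
  have hsm : Algebra.Smooth k C := inferInstance
  have : IsReduced C := Groth.Agent.Flat2B.SmoothGeom.isReduced_of_smooth_field k C
  have : IsNoetherianRing C := Algebra.FiniteType.isNoetherianRing k C
  have hB : RingHom.Locally (RingHom.IsStandardSmoothOfRelativeDimension (Fintype.card τ)) (algebraMap k C) := by
    refine RingHom.locally_of ?_ _ ?_
    · exact RingHom.isStandardSmoothOfRelativeDimension_respectsIso
    · rwa [RingHom.isStandardSmoothOfRelativeDimension_algebraMap]
  have hspan : Ideal.span (Set.range w) = ⊤ := by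
    have h2 := congrArg (Submodule.map (LinearMap.fst C C Ω[C⁄k])) hw
    rw [Submodule.map_span, Submodule.map_top, LinearMap.range_eq_top.mpr LinearMap.fst_surjective,
      ← Set.range_comp] at h2
    exact h2
  obtain ⟨p, hp, h3⟩ := Groth.Agent.Lefpen.H708.BertiniAlg.chart_generic k C (Fintype.card τ) hB w hw
  obtain ⟨q, hq, h4⟩ := K27.NZD.exists_poly k C w hspan
  refine ⟨p * q, mul_ne_zero hp hq, fun c hc => ?_⟩
  rw [map_mul] at hc
  refine ⟨?_, h4 c (right_ne_zero_of_mul hc)⟩
  have hfp : Algebra.FinitePresentation k (C ⧸ Ideal.span {∑ i, c i • w i}) :=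
    Algebra.FinitePresentation.of_finiteType.mp inferInstance
  rcases h3 c (left_ne_zero_of_mul hc) with ⟨-, h5⟩ | ⟨-, h5⟩
  · rw [← RingHom.smooth_algebraMap, RingHom.smooth_iff_locally_isStandardSmooth]
    refine RingHom.locally_of_locally ?_ h5
    intro _ _ _ _ _ hf
    exact hf.isStandardSmooth
  · exact K27.Strata.smooth_of_subsingleton k _

/-- Jets pass to quotients. -/
theorem jets_of_surjective (k B C : Type u) [CommRing k] [CommRing B] [Algebra k B] [CommRing C] [Algebra k C]
    [Algebra B C] [IsScalarTower k B C] (hs : Function.Surjective (algebraMap B C)) {ι : Type} (w : ι → B)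
    (hw : Submodule.span B (Set.range fun α => (w α, D k B (w α))) = ⊤) :
    Submodule.span C (Set.range fun α => (algebraMap B C (w α), D k C (algebraMap B C (w α)))) = ⊤ := by
  let φ : B × Ω[B⁄k] →ₗ[B] C × Ω[C⁄k] := (Algebra.linearMap B C).prodMap (KaehlerDifferential.map k k B C)
  have hφ : Function.Surjective φ :=
    Function.Surjective.prodMap hs (KaehlerDifferential.map_surjective_of_surjective k k B C hs)
  have h1 := congrArg (Submodule.map φ) hw
  rw [Submodule.map_span, Submodule.map_top, LinearMap.range_eq_top.mpr hφ, ← Set.range_comp] at h1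
  have h2 : (φ ∘ fun α => (w α, D k B (w α))) =
      fun α => (algebraMap B C (w α), D k C (algebraMap B C (w α))) := by
    funext α
    change (algebraMap B C (w α), KaehlerDifferential.map k k B C (D k B (w α))) = _
    rw [KaehlerDifferential.map_D]
  rw [h2] at h1
  rw [eq_top_iff]
  intro x _
  have h3 : x ∈ Submodule.span B (Set.range fun α => (algebraMap B C (w α), D k C (algebraMap B C (w α)))) := by
    rw [h1]
    trivial
  exact Submodule.span_le_restrictScalars B C _ h3

/-- Jets pass to unramified algebras. -/
theorem jets_of_formallyUnramified (k B C : Type u) [CommRing k] [CommRing B] [Algebra k B] [CommRing C] [Algebra k C]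
    [Algebra B C] [IsScalarTower k B C] [Algebra.FormallyUnramified B C] {ι : Type} (w : ι → B)
    (hw : Submodule.span B (Set.range fun α => (w α, D k B (w α))) = ⊤) :
    Submodule.span C (Set.range fun α => (algebraMap B C (w α), D k C (algebraMap B C (w α)))) = ⊤ := by
  let φ : B × Ω[B⁄k] →ₗ[B] C × Ω[C⁄k] := (Algebra.linearMap B C).prodMap (KaehlerDifferential.map k k B C)
  set T := Submodule.span C (Set.range fun α => (algebraMap B C (w α), D k C (algebraMap B C (w α)))) with hT
  have h1 : ∀ x, φ x ∈ T := by
    intro x
    have hx : x ∈ Submodule.span B (Set.range fun α => (w α, D k B (w α))) := by rw [hw]; trivial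
    have h2 : φ x ∈ Submodule.map φ (Submodule.span B (Set.range fun α => (w α, D k B (w α)))) :=
      Submodule.mem_map_of_mem hx
    rw [Submodule.map_span, ← Set.range_comp] at h2
    have h3 : (φ ∘ fun α => (w α, D k B (w α))) =
        fun α => (algebraMap B C (w α), D k C (algebraMap B C (w α))) := by
      funext α
      change (algebraMap B C (w α), KaehlerDifferential.map k k B C (D k B (w α))) = _
      rw [KaehlerDifferential.map_D]
    rw [h3] at h2
    exact Submodule.span_le_restrictScalars B C _ h2
  have h10 : ((1 : C), (0 : Ω[C⁄k])) ∈ T := by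
    have := h1 (1, 0)
    simpa [φ] using this
  have h01 : ∀ ω : Ω[B⁄k], ((0 : C), KaehlerDifferential.map k k B C ω) ∈ T := by
    intro ω
    have := h1 (0, ω)
    simpa [φ] using this
  have hΩ : Subsingleton Ω[C⁄B] := Algebra.FormallyUnramified.subsingleton_kaehlerDifferential
  have hall : ∀ ω : Ω[C⁄k], ((0 : C), ω) ∈ T := by
    intro ω
    have h4 : ω ∈ LinearMap.range (KaehlerDifferential.mapBaseChange k B C) := by
      rw [KaehlerDifferential.range_mapBaseChange, LinearMap.mem_ker]
      exact Subsingleton.elim _ _
    obtain ⟨z, rfl⟩ := h4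
    induction z with
    | zero => rw [map_zero]; exact T.zero_mem
    | tmul c ω =>
      rw [KaehlerDifferential.mapBaseChange_tmul]
      have h5 := T.smul_mem c (h01 ω)
      rwa [Prod.smul_mk, smul_zero] at h5
    | add x y hx hy =>
      rw [map_add]
      have h5 := T.add_mem hx hy
      rwa [Prod.mk_add_mk, add_zero] at h5
  rw [eq_top_iff]
  rintro ⟨c, ω⟩ _
  have h6 := T.add_mem (T.smul_mem c h10) (hall ω)
  simpa using h6

/-- Bertini with normal crossings on a chart, for systems separating first order jets. -/
theorem exists_poly_jets (k B : Type u) [Field k] [IsAlgClosed k] [CommRing B] [Algebra k B] {σ : Type} [Finite σ]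
    (v : σ → B) (h : (MvPolynomial.eval₂Hom (algebraMap k B) v).Etale) {ι : Type} [Fintype ι] (w : ι → B)
    (hw : Submodule.span B (Set.range fun α => (w α, D k B (w α))) = ⊤) :
    ∃ p : MvPolynomial ι k, p ≠ 0 ∧ ∀ c : ι → k, MvPolynomial.eval c p ≠ 0 → Crosses k B v (∑ i, c i • w i) := by
  classical
  refine exists_poly k B v h w fun J => ?_
  have : Fintype (Jᶜ : Set σ) := Fintype.ofFinite _
  refine gen_of_jets k _ (fun j : (Jᶜ : Set σ) => Ideal.Quotient.mk _ (v j)) (etale_quotient_coord k B v h J) _ ?_
  exact jets_of_surjective k B _ Ideal.Quotient.mk_surjective w hw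

end K27.JetBert
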