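import Groth.Agent.Vanish.K27.JetBert
import Groth.Agent.Vanish.K27.Bert0
import Groth.Agent.PicF2.K990.UnitSec

/-!
# Bertini's theorem with normal crossings in any characteristic, for systems separating first order jets
-/

set_option autoImplicit false

universe u

open CategoryTheory CategoryTheory.Limits AlgebraicGeometry Opposite TopologicalSpace
open Groth.Agent.Fdesc.LocGen K27.SecScal K27.Crit K27.ChartBert K922.Coord K922.Chart K27.Main0 K27.Bert0
open Groth.Agent.Sga67.Sec (resO)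

namespace K27.JetMain

variable {k : Type u} [Field k] {X : Scheme.{u}} [X.Over (Spec (CommRingCat.of k))]

/-- The first order jets of the functions `w` on `U` span. -/
def JetSpan (k : Type u) [Field k] {X : Scheme.{u}} [X.Over (Spec (CommRingCat.of k))] (U : X.Opens) {ι : Type}
    (w : ι → Γ(X, U)) : Prop :=
  letI := (scal k U).toAlgebra
  Submodule.span Γ(X, U) (Set.range fun i => (w i, KaehlerDifferential.D k Γ(X, U) (w i))) = ⊤

/-- The system of sections `s` separates first order jets near the point `x`. -/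
def JetAt (k : Type u) [Field k] {X : Scheme.{u}} [X.Over (Spec (CommRingCat.of k))] {L : X.Modules} {ι : Type}
    (s : ι → (Coh.structureModule X ⟶ L)) (x : X) : Prop :=
  ∃ (W : X.affineOpens) (ε : Γ(L, W.1)) (w : ι → Γ(X, W.1)), x ∈ W.1 ∧ IsGen ε ∧
    (∀ i, sec (s i) W.1 = w i • ε) ∧ JetSpan k W.1 w

/-- A system of sections separating first order jets, locally. -/
def JetGen (k : Type u) [Field k] {X : Scheme.{u}} [X.Over (Spec (CommRingCat.of k))] {L : X.Modules} {ι : Type}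
    (s : ι → (Coh.structureModule X ⟶ L)) : Prop :=
  ∀ x : X, JetAt k s x

theorem JetSpan.res {U V : X.affineOpens} (h : V.1 ≤ U.1) {ι : Type} {w : ι → Γ(X, U.1)} (hw : JetSpan k U.1 w) :
    JetSpan k V.1 (fun i => ores h (w i)) := by
  let _ : Algebra k Γ(X, U.1) := (scal k U.1).toAlgebra
  let _ : Algebra k Γ(X, V.1) := (scal k V.1).toAlgebra
  let _ : Algebra Γ(X, U.1) Γ(X, V.1) := (ores h).toAlgebra
  have : IsScalarTower k Γ(X, U.1) Γ(X, V.1) := IsScalarTower.of_algebraMap_eq fun c => (ores_scal k h c).symm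
  have het : Algebra.Etale Γ(X, U.1) Γ(X, V.1) := by
    have h1 : (Scheme.Hom.appLE (𝟙 X) U.1 V.1 h).hom.Etale :=
      HasRingHomProperty.appLE @Etale (𝟙 X) inferInstance U V h
    have h2 : Scheme.Hom.appLE (𝟙 X) U.1 V.1 h = X.presheaf.map (homOfLE h).op := by
      rw [Scheme.Hom.appLE, Scheme.Hom.id_app]
      exact Category.id_comp _
    rw [h2] at h1
    exact h1
  exact K27.JetBert.jets_of_formallyUnramified k Γ(X, U.1) Γ(X, V.1) w hw

/-- Adding sections keeps spanning jets. -/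
theorem JetSpan.mono {U : X.Opens} {ι κ : Type} (a : ι → κ) {w : ι → Γ(X, U)} {w' : κ → Γ(X, U)}
    (h : ∀ i, w' (a i) = w i) (hw : JetSpan k U w) : JetSpan k U w' := by
  let _ : Algebra k Γ(X, U) := (scal k U).toAlgebra
  change Submodule.span Γ(X, U) (Set.range fun i => (w' i, KaehlerDifferential.D k Γ(X, U) (w' i))) = ⊤
  rw [eq_top_iff]
  refine le_trans (le_of_eq (Eq.symm hw)) (Submodule.span_mono ?_)
  rintro _ ⟨i, rfl⟩
  refine ⟨a i, ?_⟩
  change (w' (a i), KaehlerDifferential.D k Γ(X, U) (w' (a i))) = _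
  rw [h i]

theorem exists_chart_le {X S : Scheme.{u}} (f : X ⟶ S) [Smooth f] {r : ℕ} {D : Fin r → X.IdealSheafData}
    (hD : LogNCD.IsNCD D f) (O : X.Opens) (x : X) (hx : x ∈ O) :
    ∃ (W : X.affineOpens) (V : S.affineOpens) (e : W.1 ≤ f ⁻¹ᵁ V.1) (n : ℕ) (c : Chart f D W.1 n),
      x ∈ W.1 ∧ W.1 ≤ O ∧ (MvPolynomial.eval₂Hom (f.appLE V.1 W.1 e).hom c.v).Etale := by
  obtain ⟨U, n, c, hxU, hUO⟩ := exists_chart hD hx
  obtain ⟨W, hWU, V, e, -, hxW, het⟩ := c.coord x U.1 le_rfl hxU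
  exact ⟨W, V, e, n, c.restrict hWU, hxW, hWU.trans hUO, het⟩

/-- Bertini near a point, for jet separating systems. -/
theorem exists_local [IsAlgClosed k] [Smooth (X ↘ Spec (CommRingCat.of k))] {r : ℕ} {D : Fin r → X.IdealSheafData}
    (hD : LogNCD.IsNCD D (X ↘ Spec (CommRingCat.of k))) {L : X.Modules} (hL : PicF.IsInvertible L)
    {ι : Type} [Fintype ι] (s : ι → (Coh.structureModule X ⟶ L)) (x : X) (hx : JetAt k s x) :
    ∃ (W : X.Opens) (p : MvPolynomial ι k), x ∈ W ∧ p ≠ 0 ∧ ∀ c : ι → k, MvPolynomial.eval c p ≠ 0 →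
      ∀ y ∈ W, NcdAt (X ↘ Spec (CommRingCat.of k)) (snocD D (PicF2.zeroScheme L (member k s c))) y := by
  obtain ⟨W₀, ε₀, w₀, hx₀, hε₀, hw₀, hj₀⟩ := hx
  obtain ⟨W, V, e, n, c, hxW, hWW₀, het⟩ := exists_chart_le (X ↘ Spec (CommRingCat.of k)) hD W₀.1 x hx₀
  have hV : V.1 = ⊤ := eq_top_of_mem V.1 ((X ↘ Spec (CommRingCat.of k)) x) (e hxW)
  have hε : IsGen (res L hWW₀ ε₀) := hε₀.res _
  have hw : ∀ i, sec (s i) W.1 = ores hWW₀ (w₀ i) • res L hWW₀ ε₀ := fun i => by
    rw [← res_sec (s i) hWW₀, hw₀, res_smul]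
  have hj : JetSpan k W.1 (fun i => ores hWW₀ (w₀ i)) := hj₀.res hWW₀
  let _ : Algebra k Γ(X, W.1) := (scal k W.1).toAlgebra
  have het' := etale_k W V e c het hV
  obtain ⟨p, hp, h⟩ := K27.JetBert.exists_poly_jets k Γ(X, W.1) c.v het' (fun i => ores hWW₀ (w₀ i)) hj
  refine ⟨W.1, p, hxW, hp, fun a ha y hy => ?_⟩
  exact ncdAt hL W V e c het _ hε (member k s a) (∑ i, a i • ores hWW₀ (w₀ i)) (sec_comb k s a _ hw) (h a ha) y hy

/-- Bertini over a quasi-compact set of points at which the system separates first order jets. -/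
theorem exists_poly_ncdAt [IsAlgClosed k] [Smooth (X ↘ Spec (CommRingCat.of k))] {r : ℕ}
    {D : Fin r → X.IdealSheafData}
    (hD : LogNCD.IsNCD D (X ↘ Spec (CommRingCat.of k))) {L : X.Modules} (hL : PicF.IsInvertible L)
    {ι : Type} [Fintype ι] (s : ι → (Coh.structureModule X ⟶ L)) (E : Set X) (hE : IsCompact E)
    (hgen : ∀ x ∈ E, JetAt k s x) :
    ∃ p : MvPolynomial ι k, p ≠ 0 ∧ ∀ c : ι → k, MvPolynomial.eval c p ≠ 0 →
      ∀ y ∈ E, NcdAt (X ↘ Spec (CommRingCat.of k)) (snocD D (PicF2.zeroScheme L (member k s c))) y := by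
  classical
  choose W p hxW hp h using fun x : E => exists_local hD hL s x.1 (hgen x x.2)
  obtain ⟨J, hJ⟩ := hE.elim_finite_subcover (fun x : E => (W x : Set X)) (fun x => (W x).2)
    (fun x hx => Set.mem_iUnion.mpr ⟨⟨x, hx⟩, hxW ⟨x, hx⟩⟩)
  refine ⟨∏ x ∈ J, p x, Finset.prod_ne_zero_iff.mpr fun x _ => hp x, fun c hc => ?_⟩
  rw [map_prod, Finset.prod_ne_zero_iff] at hc
  intro y hyE
  obtain ⟨x, hxJ, hy⟩ := Set.mem_iUnion₂.mp (hJ hyE)
  exact h x c (hc x hxJ) y hy

/-- Bertini's theorem with normal crossings in any characteristic: the general member of a linear system separating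
first order jets is smooth and crosses a given normal crossing divisor normally. -/
theorem exists_poly_isNCD [IsAlgClosed k] [Smooth (X ↘ Spec (CommRingCat.of k))] [CompactSpace X] {r : ℕ}
    {D : Fin r → X.IdealSheafData}
    (hD : LogNCD.IsNCD D (X ↘ Spec (CommRingCat.of k))) {L : X.Modules} (hL : PicF.IsInvertible L)
    {ι : Type} [Fintype ι] (s : ι → (Coh.structureModule X ⟶ L)) (hgen : JetGen k s) :
    ∃ p : MvPolynomial ι k, p ≠ 0 ∧ ∀ c : ι → k, MvPolynomial.eval c p ≠ 0 →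
      LogNCD.IsNCD (snocD D (PicF2.zeroScheme L (member k s c))) (X ↘ Spec (CommRingCat.of k)) := by
  obtain ⟨p, hp, h⟩ := exists_poly_ncdAt hD hL s Set.univ isCompact_univ (fun x _ => hgen x)
  refine ⟨p, hp, fun c hc => ?_⟩
  apply isNCD_of_forall
  intro y
  exact h c hc y (Set.mem_univ y)

/-- At the point `q` all the sections vanish, and not all of them to the second order. -/
def BaseAt (k : Type u) [Field k] {X : Scheme.{u}} [X.Over (Spec (CommRingCat.of k))] {L : X.Modules} {ι : Type}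
    (s : ι → (Coh.structureModule X ⟶ L)) (q : X) : Prop :=
  ∃ (W : X.affineOpens) (hq : q ∈ W.1) (ε : Γ(L, W.1)) (w : ι → Γ(X, W.1)), IsGen ε ∧
    (∀ i, sec (s i) W.1 = w i • ε) ∧ (∀ i, w i ∈ (W.2.primeIdealOf ⟨q, hq⟩).asIdeal) ∧
    letI := (scal k W.1).toAlgebra
    ∃ (δ : Derivation k Γ(X, W.1) (W.2.primeIdealOf ⟨q, hq⟩).asIdeal.ResidueField) (i : ι), δ (w i) ≠ 0

end K27.JetMain
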