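import Groth.Agent.Vanish.K27.JetSys
import Groth.Agent.Vanish.K27.JetBase

/-!
# Systems of sections with a simple base point
-/

set_option autoImplicit false

universe u

open CategoryTheory CategoryTheory.Limits AlgebraicGeometry Opposite TopologicalSpace
open Groth.Agent.Fdesc.LocGen K27.SecScal K27.JetMain K27.Main0 K27.JetSys K27.ChartBert
open Groth.Agent.Ega2.SecCalc (powSec genLocus_powSec castSec genLocus_castSec)

namespace K27.JetPt

/-- The zero family in an étale domain: an étale domain over an algebraically closed field has only the zero prime. -/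
theorem eq_bot_of_etale (k B : Type u) [Field k] [CommRing B] [IsDomain B] [Algebra k B] [Algebra.Etale k B]
    (P : Ideal B) [P.IsPrime] : P = ⊥ := by
  have h1 : Module.Finite k B := Algebra.FormallyUnramified.finite_of_free k B
  have h2 : IsField B := (Algebra.IsIntegral.isField_iff_isField (algebraMap k B).injective).mp (Field.toIsField k)
  let _ : Field B := h2.toField
  exact (Ideal.eq_bot_or_top P).resolve_right Ideal.IsPrime.ne_top'

variable {k : Type u} [Field k] {X : Scheme.{u}} [X.Over (Spec (CommRingCat.of k))]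

/-- There is a tangent vector at every closed point of an integral smooth scheme which is not a point. -/
theorem exists_tangent [Smooth (X ↘ Spec (CommRingCat.of k))] [IsIntegral X] [Nontrivial X] (q : X)
    (hq : IsClosed {q}) (O : X.Opens) (hqO : q ∈ O) :
    ∃ (W : X.affineOpens) (hqW : q ∈ W.1), W.1 ≤ O ∧
      (letI := (scal k W.1).toAlgebra
      ∃ (δ : Derivation k Γ(X, W.1) (W.2.primeIdealOf ⟨q, hqW⟩).asIdeal.ResidueField) (a : Γ(X, W.1)), δ a ≠ 0) := by
  have hD : LogNCD.IsNCD (fun i : Fin 0 => i.elim0) (X ↘ Spec (CommRingCat.of k)) := by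
    intro x hx
    obtain ⟨⟨i, -⟩⟩ := hx
    exact i.elim0
  obtain ⟨W, V, e, n, c, hqW, hWO, het⟩ := exists_chart_le (X ↘ Spec (CommRingCat.of k)) hD O q hqO
  have hV : V.1 = ⊤ := eq_top_of_mem V.1 ((X ↘ Spec (CommRingCat.of k)) q) (e hqW)
  let _ : Algebra k Γ(X, W.1) := (scal k W.1).toAlgebra
  have het' := etale_k W V e c het hV
  refine ⟨W, hqW, hWO, ?_⟩
  let P := (W.2.primeIdealOf ⟨q, hqW⟩).asIdeal
  rcases Nat.eq_zero_or_pos n with hn | hn
  · exfalso
    subst hn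
    have hne : Nonempty W.1 := ⟨⟨q, hqW⟩⟩
    have h1 : Algebra.Etale k Γ(X, W.1) := by
      have h2 : (algebraMap k Γ(X, W.1)) = (MvPolynomial.eval₂Hom (algebraMap k Γ(X, W.1)) c.v).comp
          (MvPolynomial.isEmptyRingEquiv k (Fin 0)).symm.toRingHom := by
        refine RingHom.ext fun a => ?_
        exact (MvPolynomial.eval₂_C (algebraMap k Γ(X, W.1)) c.v a).symm
      have h3 : (algebraMap k Γ(X, W.1)).Etale := by
        rw [h2]
        exact RingHom.Etale.respectsIso.2 _ _ het'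
      exact h3
    have hη : genericPoint X ∈ W.1 := (genericPoint_spec X).mem_open_set_iff W.1.2 |>.mpr ⟨q, trivial, hqW⟩
    have h4 : W.2.primeIdealOf ⟨q, hqW⟩ = W.2.primeIdealOf ⟨genericPoint X, hη⟩ := by
      apply PrimeSpectrum.ext
      rw [eq_bot_of_etale k Γ(X, W.1) (W.2.primeIdealOf ⟨q, hqW⟩).asIdeal,
        eq_bot_of_etale k Γ(X, W.1) (W.2.primeIdealOf ⟨genericPoint X, hη⟩).asIdeal]
    have h5 : q = genericPoint X := by
      have h6 := congrArg W.2.fromSpec h4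
      rwa [W.2.fromSpec_primeIdealOf, W.2.fromSpec_primeIdealOf] at h6
    have h7 : closure {genericPoint X} = (Set.univ : Set X) := genericPoint_spec X
    rw [← h5, hq.closure_eq] at h7
    obtain ⟨y, hy⟩ := exists_ne q
    exact hy (show y ∈ ({q} : Set X) by rw [h7]; trivial)
  · obtain ⟨δ, hδ, -⟩ := dualAt_of_etale k Γ(X, W.1) P.ResidueField c.v het' ⟨0, hn⟩
    exact ⟨δ, c.v ⟨0, hn⟩, by rw [hδ]; exact one_ne_zero⟩

/-- Derivations of an unramified algebra vanishing on the base vanish. -/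
theorem derivation_eq_zero (k B C M : Type u) [CommRing k] [CommRing B] [CommRing C] [Algebra k B] [Algebra k C]
    [Algebra B C] [IsScalarTower k B C] [Algebra.FormallyUnramified B C] [AddCommGroup M] [Module C M] [Module k M]
    (δ : Derivation k C M) (h : ∀ b : B, δ (algebraMap B C b) = 0) (c : C) : δ c = 0 := by
  let _ : Module B M := Module.compHom M (algebraMap B C)
  have : IsScalarTower B C M := ⟨fun b c m => by
    rw [Algebra.smul_def, mul_smul]; rfl⟩
  let δ' : Derivation B C M :=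
    { toFun := δ
      map_add' := δ.map_add
      map_smul' := fun b c => by
        change δ (b • c) = algebraMap B C b • δ c
        rw [Algebra.smul_def, δ.leibniz, h, smul_zero, add_zero]
      map_one_eq_zero' := δ.map_one_eq_zero
      leibniz' := δ.leibniz }
  have hΩ : Subsingleton Ω[C⁄B] := Algebra.FormallyUnramified.subsingleton_kaehlerDifferential
  have h1 : δ'.liftKaehlerDifferential (KaehlerDifferential.D B C c) = δ' c := by simp
  rw [Subsingleton.elim (KaehlerDifferential.D B C c) 0, map_zero] at h1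
  exact h1.symm

/-- A tangent vector on a small open is detected by functions on a larger affine open. -/
theorem exists_ne_zero_of_res {U W : X.affineOpens} (h : W.1 ≤ U.1) (M : Type u) [AddCommGroup M]
    [Module Γ(X, W.1) M] [Module k M] :
    letI := (scal k W.1).toAlgebra
    ∀ (δ : Derivation k Γ(X, W.1) M) (a : Γ(X, W.1)), δ a ≠ 0 → ∃ b : Γ(X, U.1), δ (ores h b) ≠ 0 := by
  intro δ a ha
  by_contra hcon
  push Not at hcon
  let _ : Algebra k Γ(X, W.1) := (scal k W.1).toAlgebra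
  let _ : Algebra k Γ(X, U.1) := (scal k U.1).toAlgebra
  let _ : Algebra Γ(X, U.1) Γ(X, W.1) := (ores h).toAlgebra
  have : IsScalarTower k Γ(X, U.1) Γ(X, W.1) := IsScalarTower.of_algebraMap_eq fun c => (ores_scal k h c).symm
  have het : Algebra.Etale Γ(X, U.1) Γ(X, W.1) := by
    have h1 : (Scheme.Hom.appLE (𝟙 X) U.1 W.1 h).hom.Etale :=
      HasRingHomProperty.appLE @Etale (𝟙 X) inferInstance U W h
    have h2 : Scheme.Hom.appLE (𝟙 X) U.1 W.1 h = X.presheaf.map (homOfLE h).op := by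
      rw [Scheme.Hom.appLE, Scheme.Hom.id_app]
      exact Category.id_comp _
    rw [h2] at h1
    exact h1
  exact ha (derivation_eq_zero k Γ(X, U.1) Γ(X, W.1) M δ hcon a)

/-- Values at a closed point are scalars. -/
theorem exists_scal_sub_mem [IsAlgClosed k] [LocallyOfFiniteType (X ↘ Spec (CommRingCat.of k))] (W : X.affineOpens)
    (q : X) (hqW : q ∈ W.1) (hq : IsClosed {q}) (a : Γ(X, W.1)) :
    ∃ c : k, a - scal k W.1 c ∈ (W.2.primeIdealOf ⟨q, hqW⟩).asIdeal := by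
  let P := (W.2.primeIdealOf ⟨q, hqW⟩).asIdeal
  have hP : P.IsMaximal := W.2.primeIdealOf_isMaximal_of_isClosed ⟨q, hqW⟩ hq
  let _ : Algebra k Γ(X, W.1) := (scal k W.1).toAlgebra
  have hft : Algebra.FiniteType k Γ(X, W.1) := finiteType_scal (k := k) W.2
  let _ : Field (Γ(X, W.1) ⧸ P) := Ideal.Quotient.field P
  have h1 : Module.Finite k (Γ(X, W.1) ⧸ P) := finite_of_finite_type_of_isJacobsonRing k (Γ(X, W.1) ⧸ P)
  obtain ⟨c, hc⟩ := (IsAlgClosed.algebraMap_bijective_of_isIntegral (k := k) (K := Γ(X, W.1) ⧸ P)).2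
    (Ideal.Quotient.mk P a)
  refine ⟨c, Ideal.Quotient.eq_zero_iff_mem.mp ?_⟩
  rw [map_sub, sub_eq_zero]
  exact hc.symm

open Groth.Agent.Ega2.TensPow (tensPowAdd)

/-- Products with a system having a simple base point. -/
theorem baseAt_tmul {M N : X.Modules} {ι κ : Type} (s : ι → (Coh.structureModule X ⟶ M))
    (t : κ → (Coh.structureModule X ⟶ N)) (q : X) (W : X.affineOpens) (hqW : q ∈ W.1) (μ : Γ(M, W.1)) (hμ : IsGen μ)
    (ν : Γ(N, W.1)) (hν : IsGen ν) (i₀ : ι) (hi₀ : q ∈ CohB1.genLocus M (s i₀)) (β : κ → Γ(X, W.1))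
    (hβ : ∀ j, sec (t j) W.1 = β j • ν) (hβq : ∀ j, β j ∈ (W.2.primeIdealOf ⟨q, hqW⟩).asIdeal)
    (hδ : letI := (scal k W.1).toAlgebra
      ∃ (δ : Derivation k Γ(X, W.1) (W.2.primeIdealOf ⟨q, hqW⟩).asIdeal.ResidueField) (j : κ), δ (β j) ≠ 0) :
    BaseAt k (fun p : ι × κ => tmulHom (s p.1) (t p.2)) q := by
  obtain ⟨δ, j₀, hδ⟩ := hδ
  let _ : Algebra k Γ(X, W.1) := (scal k W.1).toAlgebra
  choose α hα using fun i => hμ.exists_eq (sec (s i) W.1)
  refine ⟨W, hqW, tmul μ ν, fun p => α p.1 * β p.2, hμ.tmul hν, fun p => ?_, fun p => ?_, δ, (i₀, j₀), ?_⟩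
  · rw [sec_tmulHom, hα, hβ, smul_tmul, tmul_smul, smul_smul]
  · exact Ideal.mul_mem_left _ _ (hβq _)
  · rw [Derivation.leibniz]
    have h1 : β j₀ • δ (α i₀) = 0 := by
      rw [Algebra.smul_def, (Ideal.algebraMap_residueField_eq_zero).mpr (hβq j₀), zero_mul]
    rw [h1, add_zero, Algebra.smul_def]
    refine mul_ne_zero ?_ hδ
    rw [Ne, Ideal.algebraMap_residueField_eq_zero]
    have h2 : CohB1.genLocus M (s i₀) ⊓ W.1 = X.basicOpen (α i₀) := genLocus_inf_eq (s i₀) hμ (hα i₀)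
    have h3 : q ∈ X.basicOpen (α i₀) := by
      rw [← h2]
      exact ⟨hi₀, hqW⟩
    exact (K27.Crit.mem_basicOpen_iff W hqW _).mp h3

theorem baseAt_comp_iso {M N : X.Modules} {ι : Type} {s : ι → (Coh.structureModule X ⟶ M)} {q : X}
    (h : BaseAt k s q) (φ : M ≅ N) : BaseAt k (fun i => s i ≫ φ.hom) q := by
  obtain ⟨W, hqW, ε, w, hε, hw, hwq, hδ⟩ := h
  refine ⟨W, hqW, φ.hom.app W.1 ε, w, hε.app φ.hom, fun i => ?_, hwq, hδ⟩
  rw [sec_comp, hw]
  exact Scheme.Modules.Hom.app_smul _ _ _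

theorem baseAt_reindex {M : X.Modules} {ι κ : Type} {s : ι → (Coh.structureModule X ⟶ M)} {q : X}
    (h : BaseAt k s q) (e : κ ≃ ι) : BaseAt k (fun i => s (e i)) q := by
  obtain ⟨W, hqW, ε, w, hε, hw, hwq, δ, i, hδ⟩ := h
  exact ⟨W, hqW, ε, fun i => w (e i), hε, fun i => hw _, fun i => hwq _, δ, e.symm i, by
    change δ (w (e (e.symm i))) ≠ 0
    rw [e.apply_symm_apply]
    exact hδ⟩

theorem jetAt_reindex {M : X.Modules} {ι κ : Type} {s : ι → (Coh.structureModule X ⟶ M)} {x : X}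
    (h : JetAt k s x) (e : κ ≃ ι) : JetAt k (fun i => s (e i)) x := by
  refine jetAt_transfer h _ e.symm ⊤ trivial fun U _ ε hε => ⟨ε, hε, fun i w hw => ?_⟩
  rw [e.apply_symm_apply]
  exact hw

section Ample

variable [IsAlgClosed k] [Smooth (X ↘ Spec (CommRingCat.of k))] [QuasiSeparatedSpace X] [NoetherianSpace X]
  [IsIntegral X] [Nontrivial X]

/-- Sections of a power of an ample module with `q` as a simple base point and no other base point. -/
theorem exists_base_pow {A : X.Modules} (hA : CohB1.IsAmple A) (q : X) (hq : IsClosed {q}) (O : X.Opens)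
    (hqO : q ∈ O) :
    ∃ (n l : ℕ) (b : Fin l → (Coh.structureModule X ⟶ CohB1.tensorPow A n)),
      (∀ x, x ≠ q → ∃ j, x ∈ CohB1.genLocus _ (b j)) ∧
      ∃ (W : X.affineOpens) (hqW : q ∈ W.1) (ν : Γ(CohB1.tensorPow A n, W.1)) (β : Fin l → Γ(X, W.1)), W.1 ≤ O ∧
        IsGen ν ∧ (∀ j, sec (b j) W.1 = β j • ν) ∧ (∀ j, β j ∈ (W.2.primeIdealOf ⟨q, hqW⟩).asIdeal) ∧
        (letI := (scal k W.1).toAlgebra
        ∃ (δ : Derivation k Γ(X, W.1) (W.2.primeIdealOf ⟨q, hqW⟩).asIdeal.ResidueField) (j : Fin l), δ (β j) ≠ 0) := by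
  classical
  have hinv := hA.1
  have hcpt : CompactSpace X := hA.2.1
  -- the affine open around `q`
  obtain ⟨O₁, e₁, hqO₁, he₁⟩ := (isInvertible_iff A).mp hinv q
  obtain ⟨d, t, hqt, htO, haff⟩ := Groth.Agent.Ega2.AmpleSec.exists_affine_genLocus_nhd hA (O ⊓ O₁) q ⟨hqO, hqO₁⟩
  let U : X.affineOpens := ⟨CohB1.genLocus _ t, haff⟩
  obtain ⟨W, hqW, hWU, δ, a, hδa⟩ := exists_tangent (k := k) q hq U.1 hqt
  let _ : Algebra k Γ(X, W.1) := (scal k W.1).toAlgebra
  obtain ⟨b, hb⟩ := exists_ne_zero_of_res (k := k) (U := U) (W := W) hWU _ δ a hδa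
  obtain ⟨c, hc⟩ := exists_scal_sub_mem (k := k) W q hqW hq (ores hWU b)
  let g : Γ(X, U.1) := b - scal k U.1 c
  have hg : ores hWU g ∈ (W.2.primeIdealOf ⟨q, hqW⟩).asIdeal := by
    rw [map_sub, ores_scal]
    exact hc
  have hδg : δ (ores hWU g) ≠ 0 := by
    have h1 : δ (scal k W.1 c) = 0 := δ.map_algebraMap c
    rw [map_sub, ores_scal, map_sub, h1, sub_zero]
    exact hb
  obtain ⟨n₀, hn₀⟩ := Groth.Agent.Ega2.AmpleSec.exists_sections hinv (Nat.succ_pos d) t
    (res A (htO.trans inf_le_right) e₁) (he₁.res _) {g} (Set.finite_singleton g)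
  -- sections away from `q`
  have h2 : ∀ x : X, x ≠ q → ∃ (n : ℕ) (w : Coh.structureModule X ⟶ CohB1.tensorPow A (n + 1)),
      x ∈ CohB1.genLocus _ w ∧ q ∉ CohB1.genLocus _ w := by
    intro x hx
    obtain ⟨n, w, hxw, hwq, -⟩ := Groth.Agent.Ega2.AmpleSec.exists_affine_genLocus_nhd hA
      ⟨{q}ᶜ, hq.isOpen_compl⟩ x hx
    exact ⟨n, w, hxw, fun h => hwq h rfl⟩
  choose nn w hxw hqw using fun x : ({q}ᶜ : Set X) => h2 x.1 x.2
  obtain ⟨T, hT⟩ := (NoetherianSpace.isCompact ({q}ᶜ : Set X)).elim_finite_subcover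
    (fun x : ({q}ᶜ : Set X) => (CohB1.genLocus _ (w x) : Set X)) (fun x => (CohB1.genLocus _ (w x)).2)
    (fun x hx => Set.mem_iUnion.mpr ⟨⟨x, hx⟩, hxw ⟨x, hx⟩⟩)
  let n : ℕ := (∏ x ∈ T, (nn x + 1)) * (n₀ + 1)
  have hprod : 0 < ∏ x ∈ T, (nn x + 1) := Finset.prod_pos fun x _ => Nat.succ_pos _
  have hnn₀ : n₀ ≤ n := by
    calc n₀ ≤ 1 * (n₀ + 1) := by omega
      _ ≤ n := Nat.mul_le_mul_right _ hprod
  have hdvd : ∀ x : T, (nn x.1 + 1) ∣ n := fun x => (Finset.dvd_prod_of_mem _ x.2).mul_right _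
  have hmul : ∀ x : T, (nn x.1 + 1) * (n / (nn x.1 + 1)) = n := fun x => Nat.mul_div_cancel' (hdvd x)
  have hn0 : 0 < n := Nat.mul_pos hprod (Nat.succ_pos _)
  have hne : ∀ x : T, n / (nn x.1 + 1) ≠ 0 := fun x h0 => by
    have := hmul x
    rw [h0] at this
    omega
  obtain ⟨v, hv, hvw⟩ := hn₀ n hnn₀
  obtain ⟨w₀, hw₀⟩ := hvw g rfl
  let B : Option T → (Coh.structureModule X ⟶ CohB1.tensorPow A n) := fun o =>
    o.elim w₀ (fun x => castSec (hmul x) (powSec (w x.1) (n / (nn x.1 + 1))))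
  obtain ⟨l, ⟨e⟩⟩ := Finite.exists_equiv_fin (Option T)
  have hνU : IsGen (sec v U.1) := (le_genLocus_iff v U.1).mp hv.ge
  have hν : IsGen (sec v W.1) := by
    rw [← res_sec v hWU]
    exact hνU.res _
  choose β hβ using fun j : Fin l => hν.exists_eq (sec (B (e.symm j)) W.1)
  refine ⟨n, l, fun j => B (e.symm j), fun x hx => ?_, W, hqW, sec v W.1, β, ?_, hν, hβ, ?_, δ, e none, ?_⟩
  · obtain ⟨y, hy, hxy⟩ := Set.mem_iUnion₂.mp (hT (show x ∈ ({q}ᶜ : Set X) from hx))
    refine ⟨e (some ⟨y, hy⟩), ?_⟩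
    change x ∈ CohB1.genLocus _ (B (e.symm (e (some ⟨y, hy⟩))))
    rw [Equiv.symm_apply_apply]
    change x ∈ CohB1.genLocus _ (castSec (hmul ⟨y, hy⟩) (powSec (w y) (n / (nn y + 1))))
    rw [genLocus_castSec, genLocus_powSec hinv _ (hne ⟨y, hy⟩)]
    exact hxy
  · exact hWU.trans (htO.trans inf_le_left)
  · intro j
    have hβ0 : ores hWU g = β (e none) := by
      apply hν.ext
      have h3 := hβ (e none)
      rw [Equiv.symm_apply_apply] at h3
      rw [← h3, ← res_sec v hWU, ← res_smul, ← hw₀, res_sec]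
      rfl
    obtain ⟨o, rfl⟩ := e.surjective j
    rcases o with _ | x
    · rw [← hβ0]
      exact hg
    · have h3 : CohB1.genLocus _ (B (e.symm (e (some x)))) ⊓ W.1 = X.basicOpen (β (e (some x))) :=
        genLocus_inf_eq _ hν (hβ _)
      by_contra hcon
      have h4 : q ∈ X.basicOpen (β (e (some x))) := (K27.Crit.mem_basicOpen_iff W hqW _).mpr hcon
      rw [← h3, Equiv.symm_apply_apply] at h4
      have h5 : q ∈ CohB1.genLocus _ (castSec (hmul x) (powSec (w x.1) (n / (nn x.1 + 1)))) := h4.1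
      rw [genLocus_castSec, genLocus_powSec hinv _ (hne x)] at h5
      exact hqw x.1 h5
  · have hβ0 : ores hWU g = β (e none) := by
      apply hν.ext
      have h3 := hβ (e none)
      rw [Equiv.symm_apply_apply] at h3
      rw [← h3, ← res_sec v hWU, ← res_smul, ← hw₀, res_sec]
      rfl
    rw [← hβ0]
    exact hδg

/-- Systems of sections of `M ⊗ A^m`, `m` large, with a simple base point at `q` and separating first order jets at
the other points. -/
theorem exists_base {A M : X.Modules} (hA : CohB1.IsAmple A) (hM : PicF.IsInvertible M) (q : X) (hq : IsClosed {q}) :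
    ∃ n₀ : ℕ, ∀ n, n₀ ≤ n → ∃ (N : ℕ) (s : Fin N → (Coh.structureModule X ⟶ CohB1.tensorMod M (CohB1.tensorPow A n))),
      (∀ x, x ≠ q → JetAt k s x) ∧ BaseAt k s q := by
  obtain ⟨O₁, e₁, hqO₁, he₁⟩ := (isInvertible_iff A).mp hA.1 q
  obtain ⟨O₂, e₂, hqO₂, he₂⟩ := (isInvertible_iff M).mp hM q
  obtain ⟨d, l, b, hb, W, hqW, ν, β, hWO, hν, hβ, hβq, hδ⟩ :=
    exists_base_pow (k := k) hA q hq (O₁ ⊓ O₂) ⟨hqO₁, hqO₂⟩
  obtain ⟨n₁, hn₁⟩ := exists_jetGen (k := k) hA hM
  refine ⟨n₁ + d, fun n hn => ?_⟩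
  obtain ⟨m, rfl⟩ : ∃ m, n = m + d := ⟨n - d, by omega⟩
  obtain ⟨N, s, hs⟩ := hn₁ m (by omega)
  let e := finProdFinEquiv (m := N) (n := l)
  let φ := tensPowAdd M A m d
  have hμ : IsGen (tmul (res M (hWO.trans inf_le_right) e₂) (pow (res A (hWO.trans inf_le_left) e₁) m)) :=
    (he₂.res _).tmul ((he₁.res _).pow m)
  have hsq := K27.JetBase.exists_notMem_of_jetAt
    (isInvertible_tensorMod hM (isInvertible_tensorPow hA.1 m)) s q (hs q)
  obtain ⟨i₀, hi₀⟩ := hsq
  rw [Groth.Agent.Pi1C.ZeroScheme.mem_support_iff _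
    (isInvertible_tensorMod hM (isInvertible_tensorPow hA.1 m)), not_not] at hi₀
  refine ⟨N * l, fun j => tmulHom (s (e.symm j).1) (b (e.symm j).2) ≫ φ.hom, fun x hx => ?_, ?_⟩
  · obtain ⟨j, hj⟩ := hb x hx
    have h1 := jetAt_comp_iso (jetAt_tmul (hs x) b j hj) φ
    exact jetAt_reindex h1 e.symm
  · have h1 := baseAt_comp_iso (baseAt_tmul (k := k) s b q W hqW _ hμ ν hν i₀ hi₀ β hβ hβq hδ) φ
    exact baseAt_reindex h1 e.symm

end Ample

end K27.JetPt
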