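import Groth.Agent.Vanish.K27.JetMain
import Groth.Agent.Ega2.AmpleSec
import Groth.Agent.Ega2.AmpleGlobGen
import Groth.Agent.Ega1.GlobGenPt
import Groth.Agent.CohqB.FiniteType2

/-!
# Systems of sections separating first order jets: products, ample modules
-/

set_option autoImplicit false

universe u

open CategoryTheory CategoryTheory.Limits AlgebraicGeometry Opposite TopologicalSpace
open Groth.Agent.Fdesc.LocGen K27.SecScal K27.JetMain K27.Main0
open Groth.Agent.Ega2.SecCalc (powSec genLocus_powSec castSec genLocus_castSec)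

namespace K27.JetSys

/-- Algebra generators, one of them equal to `1`, have spanning jets. -/
theorem span_of_adjoin (k B : Type u) [CommRing k] [CommRing B] [Algebra k B] {ι : Type} (g : ι → B) (i₀ : ι)
    (h1 : g i₀ = 1) (h : Algebra.adjoin k (Set.range g) = ⊤) :
    Submodule.span B (Set.range fun i => (g i, KaehlerDifferential.D k B (g i))) = ⊤ := by
  set T := Submodule.span B (Set.range fun i => (g i, KaehlerDifferential.D k B (g i))) with hT
  have h10 : ((1 : B), (0 : Ω[B⁄k])) ∈ T := by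
    have h2 : (g i₀, KaehlerDifferential.D k B (g i₀)) ∈ T := Submodule.subset_span ⟨i₀, rfl⟩
    rwa [h1, Derivation.map_one_eq_zero] at h2
  have hD : ∀ b : B, ((0 : B), KaehlerDifferential.D k B b) ∈ T := by
    intro b
    have hb : b ∈ Algebra.adjoin k (Set.range g) := by rw [h]; trivial
    induction hb using Algebra.adjoin_induction with
    | mem x hx =>
      obtain ⟨i, rfl⟩ := hx
      have h3 : (g i, KaehlerDifferential.D k B (g i)) - g i • ((1 : B), (0 : Ω[B⁄k])) ∈ T :=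
        T.sub_mem (Submodule.subset_span ⟨i, rfl⟩) (T.smul_mem _ h10)
      simpa using h3
    | algebraMap r =>
      rw [Derivation.map_algebraMap]
      exact T.zero_mem
    | add x y _ _ hx hy =>
      rw [map_add]
      have h3 := T.add_mem hx hy
      simpa using h3
    | mul x y _ _ hx hy =>
      rw [Derivation.leibniz]
      have h3 := T.add_mem (T.smul_mem x hy) (T.smul_mem y hx)
      simpa using h3
  have hall : ∀ ω : Ω[B⁄k], ((0 : B), ω) ∈ T := by
    intro ω
    have hω : ω ∈ Submodule.span B (Set.range (KaehlerDifferential.D k B)) := by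
      rw [KaehlerDifferential.span_range_derivation]; trivial
    induction hω using Submodule.span_induction with
    | mem x hx =>
      obtain ⟨b, rfl⟩ := hx
      exact hD b
    | zero => exact T.zero_mem
    | add x y _ _ hx hy =>
      have h3 := T.add_mem hx hy
      simpa using h3
    | smul r x _ hx =>
      have h3 := T.smul_mem r hx
      simpa using h3
  rw [eq_top_iff]
  rintro ⟨c, ω⟩ _
  have h6 := T.add_mem (T.smul_mem c h10) (hall ω)
  simpa using h6

variable {k : Type u} [Field k] {X : Scheme.{u}} [X.Over (Spec (CommRingCat.of k))] {L M N P : X.Modules}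

/-- It suffices that a subsystem has spanning jets. -/
theorem jetAt_of_sub {ι μ : Type} (W : X.affineOpens) {x : X} (hx : x ∈ W.1) (ε : Γ(L, W.1)) (hε : IsGen ε)
    (s : μ → (Coh.structureModule X ⟶ L)) (a : ι → μ) (w : ι → Γ(X, W.1))
    (h : ∀ i, sec (s (a i)) W.1 = w i • ε) (hw : JetSpan k W.1 w) : JetAt k s x := by
  choose w' hw' using fun j => hε.exists_eq (sec (s j) W.1)
  refine ⟨W, ε, w', hx, hε, hw', hw.mono a fun i => ?_⟩
  apply hε.ext
  rw [← hw', h]

/-- Transfer of the jet condition. -/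
theorem jetAt_transfer {ι μ : Type} {s : ι → (Coh.structureModule X ⟶ M)} {x : X} (hs : JetAt k s x)
    (s' : μ → (Coh.structureModule X ⟶ P)) (a : ι → μ) (O : X.Opens) (hx : x ∈ O)
    (H : ∀ (U : X.Opens), U ≤ O → ∀ ε : Γ(M, U), IsGen ε → ∃ ε' : Γ(P, U), IsGen ε' ∧
      ∀ (i : ι) (w : Γ(X, U)), sec (s i) U = w • ε → sec (s' (a i)) U = w • ε') : JetAt k s' x := by
  obtain ⟨W, ε, w, hxW, hε, hw, hj⟩ := hs
  obtain ⟨_, ⟨U, hU, rfl⟩, hxU, hUle⟩ :=
    X.isBasis_affineOpens.exists_subset_of_mem_open (⟨hxW, hx⟩ : x ∈ W.1 ⊓ O) (W.1 ⊓ O).2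
  have hUW : U ≤ W.1 := fun y hy => (hUle hy).1
  have hUO : U ≤ O := fun y hy => (hUle hy).2
  obtain ⟨ε', hε', h'⟩ := H U hUO (res M hUW ε) (hε.res hUW)
  refine jetAt_of_sub (k := k) ⟨U, hU⟩ hxU ε' hε' s' a (fun i => ores hUW (w i)) (fun i => h' i _ ?_)
    (hj.res (V := ⟨U, hU⟩) hUW)
  rw [← res_sec (s i) hUW, hw, res_smul]

theorem jetAt_comp_iso {ι : Type} {s : ι → (Coh.structureModule X ⟶ M)} {x : X} (hs : JetAt k s x) (φ : M ≅ P) :
    JetAt k (fun i => s i ≫ φ.hom) x := by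
  refine jetAt_transfer hs _ id ⊤ trivial fun U _ ε hε => ⟨φ.hom.app U ε, hε.app φ.hom, fun i w hw => ?_⟩
  rw [id, sec_comp, hw]
  exact Scheme.Modules.Hom.app_smul _ _ _

theorem jetAt_tmul {ι κ : Type} {s : ι → (Coh.structureModule X ⟶ M)} {x : X} (hs : JetAt k s x)
    (t : κ → (Coh.structureModule X ⟶ N)) (j : κ) (hj : x ∈ CohB1.genLocus N (t j)) :
    JetAt k (fun p : ι × κ => tmulHom (s p.1) (t p.2)) x := by
  refine jetAt_transfer hs _ (fun i => (i, j)) (CohB1.genLocus N (t j)) hj fun U hU ε hε => ?_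
  refine ⟨_root_.Groth.Agent.Fdesc.LocGen.tmul ε (sec (t j) U), hε.tmul ((le_genLocus_iff (t j) U).mp hU), fun i w hw => ?_⟩
  rw [sec_tmulHom, hw, smul_tmul]

theorem jetAt_tmul' {ι κ : Type} {s : ι → (Coh.structureModule X ⟶ M)} {x : X} (hs : JetAt k s x)
    (t : κ → (Coh.structureModule X ⟶ N)) (j : κ) (hj : x ∈ CohB1.genLocus N (t j)) :
    JetAt k (fun p : κ × ι => tmulHom (t p.1) (s p.2)) x := by
  refine jetAt_transfer hs _ (fun i => (j, i)) (CohB1.genLocus N (t j)) hj fun U hU ε hε => ?_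
  refine ⟨_root_.Groth.Agent.Fdesc.LocGen.tmul (sec (t j) U) ε, ((le_genLocus_iff (t j) U).mp hU).tmul hε, fun i w hw => ?_⟩
  rw [sec_tmulHom, hw, tmul_smul]

theorem genLocus_comp_iso {ι : Type} (s : ι → (Coh.structureModule X ⟶ M)) (φ : M ≅ P) (i : ι) :
    CohB1.genLocus P (s i ≫ φ.hom) = CohB1.genLocus M (s i) :=
  Groth.Agent.Ega2.SecCalc.genLocus_comp _ _

/-- Functions on affine opens form an algebra of finite type. -/
theorem finiteType_scal [LocallyOfFiniteType (X ↘ Spec (CommRingCat.of k))] {U : X.Opens} (hU : IsAffineOpen U) :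
    (scal k U).FiniteType := by
  have h1 : ((X ↘ Spec (CommRingCat.of k)).appLE ⊤ U le_top).hom.FiniteType :=
    HasRingHomProperty.appLE @LocallyOfFiniteType (X ↘ Spec (CommRingCat.of k)) inferInstance
      ⟨⊤, isAffineOpen_top _⟩ ⟨U, hU⟩ le_top
  have h2 : scal k U = ((X ↘ Spec (CommRingCat.of k)).appLE ⊤ U le_top).hom.comp (ψ ⊤) := by
    refine RingHom.ext fun c => ?_
    exact (appLE_ψ ⊤ U le_top c).symm
  rw [h2]
  exact h1.comp (RingHom.FiniteType.of_surjective _ (ψ_bijective ⊤ rfl).surjective)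

/-- A finite set of algebra generators of the functions on an affine open, containing `1`. -/
theorem exists_generators [LocallyOfFiniteType (X ↘ Spec (CommRingCat.of k))] (U : X.Opens) :
    ∃ C : Set Γ(X, U), (1 : Γ(X, U)) ∈ C ∧ (IsAffineOpen U → C.Finite ∧
      (letI := (scal k U).toAlgebra; Algebra.adjoin k C = ⊤)) := by
  classical
  by_cases hU : IsAffineOpen U
  · let _ : Algebra k Γ(X, U) := (scal k U).toAlgebra
    have h1 : Algebra.FiniteType k Γ(X, U) := finiteType_scal (k := k) hU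
    obtain ⟨S, hS⟩ := h1.out
    refine ⟨insert 1 (S : Set Γ(X, U)), Set.mem_insert _ _, fun _ => ⟨S.finite_toSet.insert _, ?_⟩⟩
    rw [eq_top_iff, ← hS]
    exact Algebra.adjoin_mono (Set.subset_insert _ _)
  · exact ⟨{1}, rfl, fun h => absurd h hU⟩

/-- Large powers of an ample invertible module have finite systems of sections separating first order jets. -/
theorem exists_jetGen_pow [LocallyOfFiniteType (X ↘ Spec (CommRingCat.of k))] [QuasiSeparatedSpace X]
    {A : X.Modules} (hA : CohB1.IsAmple A) :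
    ∃ n₀ : ℕ, ∀ n, n₀ ≤ n → ∃ (N : ℕ) (s : Fin N → (Coh.structureModule X ⟶ CohB1.tensorPow A n)), JetGen k s := by
  classical
  choose C hC1 hC using exists_generators (k := k) (X := X)
  obtain ⟨ι, _, U, hU, haff, n₀, hn₀⟩ := Groth.Agent.Ega2.AmpleSec.exists_ample_sections hA C (fun U hU => (hC U hU).1)
  refine ⟨n₀, fun n hn => ?_⟩
  choose v hv w hw using hn₀ n hn
  have hfin : ∀ i, Finite (C (U i)) := fun i => (hC (U i) (haff i)).1
  let I := Σ i : ι, C (U i)
  obtain ⟨N, ⟨e⟩⟩ := Finite.exists_equiv_fin I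
  let s : I → (Coh.structureModule X ⟶ CohB1.tensorPow A n) := fun j => w j.1 j.2.1 j.2.2
  refine ⟨N, fun l => s (e.symm l), fun x => ?_⟩
  have hx : x ∈ ⨆ i, U i := by rw [hU]; trivial
  obtain ⟨i, hi⟩ := Opens.mem_iSup.mp hx
  have hgen : IsGen (sec (v i) (U i)) := (le_genLocus_iff (v i) (U i)).mp (hv i).ge
  obtain ⟨l, ⟨e'⟩⟩ := Finite.exists_equiv_fin (C (U i))
  refine jetAt_of_sub (k := k) ⟨U i, haff i⟩ hi _ hgen _ (ι := Fin l) (fun c => e ⟨i, e'.symm c⟩)
    (fun c => (e'.symm c).1) (fun c => ?_) ?_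
  · rw [Equiv.symm_apply_apply]
    exact hw i _ _
  · let _ : Algebra k Γ(X, U i) := (scal k (U i)).toAlgebra
    refine span_of_adjoin k Γ(X, U i) (fun c => (e'.symm c).1) (e' ⟨1, hC1 _⟩) ?_ ?_
    · rw [Equiv.symm_apply_apply]
    · have h1 : Set.range (fun c => (e'.symm c).1) = C (U i) := by
        ext y
        constructor
        · rintro ⟨c, rfl⟩
          exact (e'.symm c).2
        · intro hy
          exact ⟨e' ⟨y, hy⟩, congrArg Subtype.val (e'.symm_apply_apply ⟨y, hy⟩)⟩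
      rw [h1]
      exact (hC (U i) (haff i)).2

/-- Invertible modules are coherent. -/
theorem isCoh_of_isInvertible {L : X.Modules} (hL : PicF.IsInvertible L) : Coh.IsCoh L := by
  have hq : Coh.IsQCoh L := Groth.Agent.Ega2.QCohLocal.isQCoh_of_isInvertible hL
  refine ⟨hq, ?_⟩
  refine Groth.Agent.CohqB.FiniteType2.isFT_of_finite_sections _ fun x => ?_
  obtain ⟨U, e, hx, -, hU, he⟩ := Groth.Agent.Ega2.TensGen.exists_affine_gen hL x (V := ⊤) trivial
  refine ⟨U, hx, hU, ?_⟩
  have h : Function.Bijective (fun a : Γ(X, U) => a • e) := by simpa using he U le_rfl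
  let e' : Γ(X, U) ≃ₗ[Γ(X, U)] Γ(L, U) :=
    LinearEquiv.ofBijective (LinearMap.toSpanSingleton _ _ e) h
  exact Module.Finite.equiv e'

/-- A globally generated invertible module on a compact scheme is generated by finitely many sections. -/
theorem exists_finite_generating [CompactSpace X] (hN : PicF.IsInvertible N) (hg : Curv2.IsGloballyGenerated N) :
    ∃ (l : ℕ) (t : Fin l → (Coh.structureModule X ⟶ N)), ∀ x, ∃ j, x ∈ CohB1.genLocus N (t j) := by
  classical
  choose t ht using fun x => Groth.Agent.Ega1.GlobGenPt.exists_mem_genLocus hN hg x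
  obtain ⟨T, hT⟩ := isCompact_univ.elim_finite_subcover (fun x => (CohB1.genLocus N (t x) : Set X))
    (fun x => (CohB1.genLocus N (t x)).2) (fun x _ => Set.mem_iUnion.mpr ⟨x, ht x⟩)
  obtain ⟨l, ⟨e⟩⟩ := Finite.exists_equiv_fin T
  refine ⟨l, fun j => t (e.symm j).1, fun x => ?_⟩
  obtain ⟨y, hy, hxy⟩ := Set.mem_iUnion₂.mp (hT (Set.mem_univ x))
  exact ⟨e ⟨y, hy⟩, by simpa using hxy⟩

/-- Twists by large powers of an ample module separate first order jets. -/
theorem exists_jetGen [LocallyOfFiniteType (X ↘ Spec (CommRingCat.of k))] [QuasiSeparatedSpace X]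
    {A : X.Modules} (hA : CohB1.IsAmple A) (hM : PicF.IsInvertible M) :
    ∃ n₀ : ℕ, ∀ n, n₀ ≤ n → ∃ (N : ℕ) (s : Fin N → (Coh.structureModule X ⟶ CohB1.tensorMod M (CohB1.tensorPow A n))),
      JetGen k s := by
  have hcomp : CompactSpace X := hA.2.1
  obtain ⟨n₁, hn₁⟩ := exists_jetGen_pow (k := k) hA
  obtain ⟨n₂, hn₂⟩ := Groth.Agent.Ega2.AmpleGlobGen.exists_globGen hA
    (F := M) (isCoh_of_isInvertible hM)
  obtain ⟨l, t, ht⟩ := exists_finite_generating
    (isInvertible_tensorMod hM (isInvertible_tensorPow hA.1 n₂)) (hn₂ n₂ le_rfl)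
  refine ⟨n₂ + n₁, fun n hn => ?_⟩
  obtain ⟨m, rfl⟩ : ∃ m, n = n₂ + m := ⟨n - n₂, by omega⟩
  obtain ⟨N, s, hs⟩ := hn₁ m (by omega)
  let e := finProdFinEquiv (m := l) (n := N)
  let φ := Groth.Agent.Ega2.TensPow.tensPowAdd M A n₂ m
  refine ⟨l * N, fun j => tmulHom (t (e.symm j).1) (s (e.symm j).2) ≫ φ.hom, fun x => ?_⟩
  obtain ⟨j, hj⟩ := ht x
  have h1 := jetAt_comp_iso (jetAt_tmul' (hs x) t j hj) φ
  refine jetAt_transfer h1 _ e ⊤ trivial fun U _ ε hε => ⟨ε, hε, fun i w hw => ?_⟩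
  rw [Equiv.symm_apply_apply]
  exact hw

end K27.JetSys
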