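import Mathlib.LinearAlgebra.Dimension.Free
import Mathlib.LinearAlgebra.FiniteDimensional.Basic
import Mathlib.LinearAlgebra.Basis.VectorSpace

/-!
# Extending a linearly independent subfamily of a spanning family
-/

set_option autoImplicit false

universe u v w

namespace K27.LinExt

/-- A linearly independent subfamily `f ∘ t` of a spanning family `f` of a finite dimensional space extends to a basis by
members of `f`. -/
theorem exists_extension {K : Type u} {V : Type v} [Field K] [AddCommGroup V] [Module K V] [Module.Finite K V]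
    {β : Type w} (f : β → V) (hf : Submodule.span K (Set.range f) = ⊤) {ι : Type*} (t : ι → β)
    (ht : LinearIndependent K (f ∘ t)) :
    ∃ (m : ℕ) (b : Fin m → β), LinearIndependent K (f ∘ Sum.elim t b) ∧
      Submodule.span K (Set.range (f ∘ Sum.elim t b)) = ⊤ := by
  let W := Submodule.span K (Set.range (f ∘ t))
  obtain ⟨κ, a, ha, hsp, hli⟩ := exists_linearIndependent' K (W.mkQ ∘ f)
  have hfin : Finite κ := by
    have := hli.finite
    exact this
  obtain ⟨m, ⟨e⟩⟩ := Finite.exists_equiv_fin κ
  have hspf : Submodule.span K (Set.range (W.mkQ ∘ f)) = ⊤ := by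
    rw [Set.range_comp, Submodule.span_image, hf, Submodule.map_top, Submodule.range_mkQ]
  refine ⟨m, a ∘ e.symm, ?_, ?_⟩
  · have h1 : LinearIndependent K (fun i => (⟨f (t i), Submodule.subset_span ⟨i, rfl⟩⟩ : W)) := by
      have := linearIndependent_span ht
      exact this
    have h2 : LinearIndependent K (Submodule.Quotient.mk (p := W) ∘ (f ∘ (a ∘ e.symm))) := by
      have h3 : LinearIndependent K (((W.mkQ ∘ f) ∘ a) ∘ e.symm) := hli.comp _ e.symm.injective
      exact h3
    have := LinearIndependent.sumElim_of_quotient h1 (f ∘ (a ∘ e.symm)) h2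
    have h4 : Sum.elim (fun i => ((⟨f (t i), Submodule.subset_span ⟨i, rfl⟩⟩ : W) : V)) (f ∘ (a ∘ e.symm)) =
        f ∘ Sum.elim t (a ∘ e.symm) := by
      ext (i | i) <;> rfl
    rw [← h4]
    exact this
  · rw [eq_top_iff]
    intro x _
    have h1 : Set.range (f ∘ Sum.elim t (a ∘ e.symm)) = Set.range (f ∘ t) ∪ Set.range (f ∘ a) := by
      rw [Sum.comp_elim, Set.Sum.elim_range]
      congr 1
      rw [← Function.comp_assoc, e.symm.surjective.range_comp]
    rw [h1, Submodule.span_union]
    have h2 : W.mkQ x ∈ Submodule.map W.mkQ (Submodule.span K (Set.range (f ∘ a))) := by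
      rw [← Submodule.span_image, ← Set.range_comp, ← Function.comp_assoc, hsp, hspf]
      trivial
    obtain ⟨y, hy, hxy⟩ := h2
    have h3 : x - y ∈ W := by
      rw [← Submodule.ker_mkQ W, LinearMap.mem_ker, map_sub, hxy, sub_self]
    have : x = (x - y) + y := by abel
    rw [this]
    exact Submodule.add_mem_sup h3 hy

end K27.LinExt
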