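import Groth.Agent.Pi1C.ZeroScheme
import Groth.Prelude.Def_Formal
import Groth.Agent.Sga67.Sec

/-!
# Values of linear combinations of sections, scalars on opens
-/

set_option autoImplicit false

universe u

open CategoryTheory CategoryTheory.Limits AlgebraicGeometry Opposite TopologicalSpace
open Groth.Agent.Fdesc.LocGen

namespace K27.SecScal

variable (k : Type u) [CommRing k] {X : Scheme.{u}} [X.Over (Spec (CommRingCat.of k))]

/-- The scalars in the functions on an open. -/
noncomputable def scal (U : X.Opens) : k →+* Γ(X, U) :=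
  (ores le_top).comp (Coh.toGlobal (X ↘ Spec (CommRingCat.of k)))

theorem ores_scal {U V : X.Opens} (h : V ≤ U) (c : k) : ores h (scal k U c) = scal k V c :=
  ores_ores le_top h _

theorem sec_smulMod {L : X.Modules} (s : Coh.structureModule X ⟶ L) (c : k) (U : X.Opens) :
    sec (Formal.smulMod k (Coh.structureModule X) c ≫ s) U = scal k U c • sec s U := by
  rw [← app_ofFun]
  rw [sec_comp]
  congr 1
  change (Formal.smulMod k (Coh.structureModule X) c).app U (ofFun 1) = ofFun (scal k U c)
  exact mul_one (scal k U c)

theorem sec_zero {L : X.Modules} (U : X.Opens) : sec (0 : Coh.structureModule X ⟶ L) U = 0 := rfl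

theorem sec_add {L : X.Modules} (s t : Coh.structureModule X ⟶ L) (U : X.Opens) :
    sec (s + t) U = sec s U + sec t U := rfl

theorem sec_sum {L : X.Modules} {ι : Type*} (J : Finset ι) (s : ι → (Coh.structureModule X ⟶ L)) (U : X.Opens) :
    sec (∑ i ∈ J, s i) U = ∑ i ∈ J, sec (s i) U := by
  classical
  induction J using Finset.induction_on with
  | empty => rw [Finset.sum_empty, Finset.sum_empty, sec_zero]
  | insert a J ha ih => rw [Finset.sum_insert ha, Finset.sum_insert ha, sec_add, ih]

/-- The value of a linear combination of sections in terms of a generator. -/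
theorem sec_comb {L : X.Modules} {ι : Type*} [Fintype ι] (s : ι → (Coh.structureModule X ⟶ L)) (c : ι → k)
    {U : X.Opens} {e : Γ(L, U)} (w : ι → Γ(X, U)) (hw : ∀ i, sec (s i) U = w i • e) :
    sec (∑ i, Formal.smulMod k (Coh.structureModule X) (c i) ≫ s i) U = (∑ i, scal k U (c i) * w i) • e := by
  rw [sec_sum, Finset.sum_smul]
  refine Finset.sum_congr rfl fun i _ => ?_
  rw [sec_smulMod, hw, smul_smul]

end K27.SecScal
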