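import Groth.Agent.Vanish.K27.ChartBert
import Groth.Agent.Vanish.K27.Crit
import Groth.Agent.Vanish.K27.SecScal

/-!
# Bertini's theorem with normal crossings
-/

set_option autoImplicit false

universe u

open CategoryTheory CategoryTheory.Limits AlgebraicGeometry Opposite TopologicalSpace
open Groth.Agent.Fdesc.LocGen K27.SecScal K27.Crit K27.ChartBert K922.Coord K922.Chart
open Groth.Agent.Sga67.Sec (resO)

namespace K27.Main0

/-- The data required at one point by the pointwise criterion. -/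
def NcdAt {X S : Scheme.{u}} (f : X ⟶ S) {r : ℕ} (D : Fin r → X.IdealSheafData) (x : X) : Prop :=
  Nonempty (LogNCD.Through D x) → ∃ (U : X.affineOpens) (V : S.affineOpens) (e : U.1 ≤ f ⁻¹ᵁ V.1)
      (hx : x ∈ U.1) (t : LogNCD.Through D x → Γ(X, U.1)), (∀ i, (D i.1).ideal U = Ideal.span {t i}) ∧
      DualFor (f.appLE V.1 U.1 e).hom (U.2.primeIdealOf ⟨x, hx⟩).asIdeal t

variable {k : Type u} [Field k] {X : Scheme.{u}} [X.Over (Spec (CommRingCat.of k))]

/-- `k` maps onto the functions on a nonempty open of `Spec k`. -/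
noncomputable def ψ (V : (Spec (CommRingCat.of k)).Opens) : k →+* Γ(Spec (CommRingCat.of k), V) :=
  (ores le_top).comp (Scheme.ΓSpecIso (CommRingCat.of k)).inv.hom

theorem eq_top_of_mem (V : (Spec (CommRingCat.of k)).Opens) (y : Spec (CommRingCat.of k)) (hy : y ∈ V) : V = ⊤ := by
  rw [eq_top_iff]
  intro z _
  have : z = y := Subsingleton.elim (α := PrimeSpectrum k) z y
  rw [this]
  exact hy

theorem ψ_bijective (V : (Spec (CommRingCat.of k)).Opens) (hV : V = ⊤) : Function.Bijective (ψ V) := by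
  subst hV
  have h1 : (ψ (⊤ : (Spec (CommRingCat.of k)).Opens)) = (Scheme.ΓSpecIso (CommRingCat.of k)).inv.hom := by
    refine RingHom.ext fun a => ?_
    exact ores_refl ((Scheme.ΓSpecIso (CommRingCat.of k)).inv.hom a)
  rw [h1]
  exact (Scheme.ΓSpecIso (CommRingCat.of k)).symm.commRingCatIsoToRingEquiv.bijective

theorem appLE_ψ (V : (Spec (CommRingCat.of k)).Opens) (U : X.Opens) (e : U ≤ (X ↘ Spec (CommRingCat.of k)) ⁻¹ᵁ V)
    (c : k) : ((X ↘ Spec (CommRingCat.of k)).appLE V U e).hom (ψ V c) = scal k U c := by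
  have h1 := Scheme.Hom.map_appLE (X ↘ Spec (CommRingCat.of k)) e (homOfLE (le_top : V ≤ ⊤)).op
  have h2 := Scheme.Hom.appLE_map (X ↘ Spec (CommRingCat.of k)) (U := ⊤) (V := ⊤) le_top (homOfLE (le_top : U ≤ ⊤)).op
  have h3 : (X ↘ Spec (CommRingCat.of k)).appLE ⊤ ⊤ le_top = (X ↘ Spec (CommRingCat.of k)).appTop := by
    rw [Scheme.Hom.appTop, Scheme.Hom.app_eq_appLE]
    rfl
  rw [h3] at h2
  have h4 := congr($(h1.trans h2.symm).hom ((Scheme.ΓSpecIso (CommRingCat.of k)).inv.hom c))
  exact h4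

/-- Affine charts on which `L` is free. -/
theorem exists_chart' {X S : Scheme.{u}} (f : X ⟶ S) [Smooth f] {r : ℕ} {D : Fin r → X.IdealSheafData}
    (hD : LogNCD.IsNCD D f) {L : X.Modules} (hL : PicF.IsInvertible L) (x : X) :
    ∃ (W : X.affineOpens) (V : S.affineOpens) (e : W.1 ≤ f ⁻¹ᵁ V.1) (n : ℕ) (c : Chart f D W.1 n) (ε : Γ(L, W.1)),
      x ∈ W.1 ∧ IsGen ε ∧ (MvPolynomial.eval₂Hom (f.appLE V.1 W.1 e).hom c.v).Etale := by
  obtain ⟨O, hO, hxO, -, ε, hε⟩ := Groth.Agent.Pi1C.ZeroScheme.exists_affine_isGen hL ⊤ x trivial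
  obtain ⟨U, n, c, hxU, hUO⟩ := exists_chart hD hxO
  obtain ⟨W, hWU, V, e, -, hxW, het⟩ := c.coord x U.1 le_rfl hxU
  exact ⟨W, V, e, n, c.restrict hWU, res L (hWU.trans hUO) ε, hxW, hε.res _, het⟩

section Point

variable {r : ℕ} {D : Fin r → X.IdealSheafData} {L : X.Modules} (hL : PicF.IsInvertible L)
  (W : X.affineOpens) (V : (Spec (CommRingCat.of k)).affineOpens)
  (e : W.1 ≤ (X ↘ Spec (CommRingCat.of k)) ⁻¹ᵁ V.1) {n : ℕ}
  (c : Chart (X ↘ Spec (CommRingCat.of k)) D W.1 n)
  (het : (MvPolynomial.eval₂Hom ((X ↘ Spec (CommRingCat.of k)).appLE V.1 W.1 e).hom c.v).Etale)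
  (ε : Γ(L, W.1)) (hε : IsGen ε)

include het in
/-- The chart is étale over the polynomial ring over `k`. -/
theorem etale_k (hV : V.1 = ⊤) :
    letI := (scal k W.1).toAlgebra
    (MvPolynomial.eval₂Hom (algebraMap k Γ(X, W.1)) c.v).Etale := by
  have h1 : MvPolynomial.eval₂Hom (scal k W.1) c.v =
      (MvPolynomial.eval₂Hom ((X ↘ Spec (CommRingCat.of k)).appLE V.1 W.1 e).hom c.v).comp
        (MvPolynomial.mapEquiv (Fin n) (RingEquiv.ofBijective (ψ V.1) (ψ_bijective V.1 hV))).toRingHom := by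
    apply MvPolynomial.ringHom_ext
    · intro a
      simp only [MvPolynomial.eval₂Hom_C, RingHom.comp_apply, RingEquiv.toRingHom_eq_coe, RingHom.coe_coe,
        MvPolynomial.mapEquiv_apply, MvPolynomial.map_C, RingEquiv.coe_ofBijective]
      exact (appLE_ψ V.1 W.1 e a).symm
    · intro j
      simp only [MvPolynomial.eval₂Hom_X', RingHom.comp_apply, RingEquiv.toRingHom_eq_coe, RingHom.coe_coe,
        MvPolynomial.mapEquiv_apply, MvPolynomial.map_X]
  change (MvPolynomial.eval₂Hom (scal k W.1) c.v).Etale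
  rw [h1]
  exact RingHom.Etale.respectsIso.2 _ _ het

include hL hε het in
/-- Normal crossings of the extended family at the points of a chart. -/
theorem ncdAt (s : Coh.structureModule X ⟶ L) (a : Γ(X, W.1)) (ha : sec s W.1 = a • ε)
    (hX : letI := (scal k W.1).toAlgebra; Crosses k Γ(X, W.1) c.v a) (y : X) (hy : y ∈ W.1) :
    NcdAt (X ↘ Spec (CommRingCat.of k)) (Fin.snoc (α := fun _ => X.IdealSheafData) D (PicF2.zeroScheme L s)) y := by
  classical
  intro hT
  set D' : Fin (r + 1) → X.IdealSheafData := Fin.snoc (α := fun _ => X.IdealSheafData) D (PicF2.zeroScheme L s) with hD'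
  have hV : V.1 = ⊤ := eq_top_of_mem V.1 ((X ↘ Spec (CommRingCat.of k)) y) (e hy)
  let T : Fin (r + 1) → Γ(X, W.1) := Fin.snoc (α := fun _ => Γ(X, W.1)) c.g a
  have hlast : (PicF2.zeroScheme L s).ideal W = Ideal.span {a} :=
    Groth.Agent.Pi1C.ZeroScheme.ideal_eq_span s hL W hε ha
  have hid : ∀ i, (D' i).ideal W = Ideal.span {T i} := by
    intro i
    refine Fin.lastCases ?_ (fun j => ?_) i
    · simp only [hD', T, Fin.snoc_last]
      exact hlast
    · simp only [hD', T, Fin.snoc_castSucc]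
      rw [c.ideal j W le_rfl, Groth.Agent.Sga67.Sec.resO_self]
  refine ⟨W, V, e, hy, fun i => T i.1, fun i => hid i.1, ?_⟩
  let p := (W.2.primeIdealOf ⟨y, hy⟩).asIdeal
  let _ : Algebra Γ(Spec (CommRingCat.of k), V.1) Γ(X, W.1) :=
    ((X ↘ Spec (CommRingCat.of k)).appLE V.1 W.1 e).hom.toAlgebra
  let _ : Algebra k Γ(X, W.1) := (scal k W.1).toAlgebra
  let _ : Algebra k Γ(Spec (CommRingCat.of k), V.1) := (ψ V.1).toAlgebra
  have : IsScalarTower k Γ(Spec (CommRingCat.of k), V.1) Γ(X, W.1) :=
    IsScalarTower.of_algebraMap_eq fun b => (appLE_ψ V.1 W.1 e b).symm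
  have het' := etale_k W V e c het hV
  have hp : ∀ i : LogNCD.Through D' y, algebraMap Γ(X, W.1) p.ResidueField (T i.1) = 0 := by
    intro i
    rw [Ideal.algebraMap_residueField_eq_zero]
    have h1 := (mem_support_iff_span (D' i.1) W (T i.1) (hid i.1) y hy).mp i.2
    rw [mem_basicOpen_iff W hy] at h1
    exact not_not.mp h1
  let aa : LogNCD.Through D' y → Option (Fin n) := fun i =>
    Fin.lastCases (motive := fun _ => Option (Fin n)) none (fun j => c.e j) i.1
  have hnone : ∀ i : LogNCD.Through D' y, ∀ j : Fin r, i.1 = Fin.castSucc j → ∃ l, c.e j = some l := by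
    intro i j hij
    rcases h : c.e j with _ | l
    · exfalso
      have h1 := hp i
      rw [hij] at h1
      simp only [T, Fin.snoc_castSucc] at h1
      rw [c.g_none j h, map_one] at h1
      exact one_ne_zero h1
    · exact ⟨l, rfl⟩
  have key : K27.Dual.DualAt k p.ResidueField (fun i : LogNCD.Through D' y => T i.1) := by
    refine dualAt_of_crosses k Γ(X, W.1) c.v het' a hX p.ResidueField _ aa ?_ ?_ hp
    · rintro ⟨i, hi⟩ ⟨j, hj⟩ hij
      have hni := hnone ⟨i, hi⟩
      have hnj := hnone ⟨j, hj⟩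
      apply Subtype.ext
      change i = j
      simp only [aa] at hij
      clear_value aa
      induction i using Fin.lastCases with
      | last =>
        induction j using Fin.lastCases with
        | last => rfl
        | cast j =>
          obtain ⟨l, hl⟩ := hnj j rfl
          simp only [Fin.lastCases_last, Fin.lastCases_castSucc, hl, reduceCtorEq] at hij
      | cast i =>
        obtain ⟨l, hl⟩ := hni i rfl
        induction j using Fin.lastCases with
        | last =>
          simp only [Fin.lastCases_last, Fin.lastCases_castSucc, hl, reduceCtorEq] at hij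
        | cast j =>
          obtain ⟨l', hl'⟩ := hnj j rfl
          simp only [Fin.lastCases_castSucc] at hij
          congr 1
          exact c.inj i j l hl (hij ▸ hl)
    · rintro ⟨i, hi⟩
      have hni := hnone ⟨i, hi⟩
      simp only [aa, T]
      induction i using Fin.lastCases with
      | last => simp only [Fin.lastCases_last, Fin.snoc_last, Option.elim]
      | cast i =>
        obtain ⟨l, hl⟩ := hni i rfl
        simp only [Fin.lastCases_castSucc, Fin.snoc_castSucc, hl, Option.elim]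
        exact c.g_some i l hl
  exact dualAt_of_surjective k p.ResidueField (ψ_bijective V.1 hV).surjective _ key

end Point

end K27.Main0
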