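import Groth.Agent.Flat2B.SmoothGeom
import Mathlib.RingTheory.Ideal.MinimalPrime.Noetherian
import Mathlib.LinearAlgebra.Dual.Lemmas
import Mathlib.Algebra.MvPolynomial.Basic

/-!
# The general member of a linear system without base points is a nonzerodivisor
-/

set_option autoImplicit false

universe u v

namespace K27.NZD

/-- A proper linear condition on the coefficients is contained in the zero set of a nonzero polynomial. -/
theorem exists_poly_of_subspace (k : Type u) [Field k] {ι : Type} [Fintype ι] (W : Submodule k (ι → k)) (hW : W ≠ ⊤) :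
    ∃ p : MvPolynomial ι k, p ≠ 0 ∧ ∀ c ∈ W, MvPolynomial.eval c p = 0 := by
  classical
  obtain ⟨f, hf, hWf⟩ := Submodule.exists_le_ker_of_lt_top W (lt_top_iff_ne_top.mpr hW)
  let p : MvPolynomial ι k := ∑ i, MvPolynomial.C (f (Pi.single i 1)) * MvPolynomial.X i
  have hp : ∀ c, MvPolynomial.eval c p = f c := by
    intro c
    have h1 : c = ∑ i, c i • (Pi.single i (1 : k) : ι → k) := by
      ext j
      simp [Finset.sum_apply, Pi.single_apply]
    conv_rhs => rw [h1]
    simp [p, mul_comm]
  refine ⟨p, ?_, fun c hc => ?_⟩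
  · rintro h
    apply hf
    ext i
    have := hp (Pi.single i 1)
    rw [h, map_zero] at this
    simpa using this.symm
  · rw [hp]
    exact hWf hc

/-- An element outside all minimal primes of a reduced ring is a nonzerodivisor. -/
theorem mem_nonZeroDivisors {B : Type u} [CommRing B] [IsReduced B] (s : B) (h : ∀ P ∈ minimalPrimes B, s ∉ P) :
    s ∈ nonZeroDivisors B := by
  rw [mem_nonZeroDivisors_iff_right]
  intro a ha
  have h1 : a ∈ nilradical B := by
    change a ∈ (⊥ : Ideal B).radical
    rw [← Ideal.sInf_minimalPrimes]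
    refine Submodule.mem_sInf.mpr fun P hP => ?_
    have := hP.1.1
    exact (this.mem_or_mem (show a * s ∈ P by rw [ha]; exact P.zero_mem)).resolve_right (h P hP)
  rwa [nilradical_eq_zero, Ideal.zero_eq_bot, Ideal.mem_bot] at h1

theorem exists_poly (k B : Type u) [Field k] [CommRing B] [Algebra k B] [IsNoetherianRing B] [IsReduced B]
    {ι : Type} [Fintype ι] (w : ι → B) (hw : Ideal.span (Set.range w) = ⊤) :
    ∃ p : MvPolynomial ι k, p ≠ 0 ∧ ∀ c : ι → k, MvPolynomial.eval c p ≠ 0 → ∑ i, c i • w i ∈ nonZeroDivisors B := by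
  classical
  have key : ∀ P : minimalPrimes B, ∃ p : MvPolynomial ι k, p ≠ 0 ∧
      ∀ c : ι → k, ∑ i, c i • w i ∈ P.1 → MvPolynomial.eval c p = 0 := by
    intro P
    let L : (ι → k) →ₗ[k] (B ⧸ P.1) := ∑ i, (LinearMap.proj i).smulRight (Ideal.Quotient.mk P.1 (w i))
    have hL : ∀ c, L c = Ideal.Quotient.mk P.1 (∑ i, c i • w i) := by
      intro c
      simp only [L, LinearMap.sum_apply, LinearMap.smulRight_apply, LinearMap.proj_apply, map_sum]
      rfl
    obtain ⟨p, hp, h⟩ := exists_poly_of_subspace k (LinearMap.ker L) (by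
      intro htop
      have := P.2.1.1
      apply this.ne_top
      rw [eq_top_iff, ← hw, Ideal.span_le]
      rintro _ ⟨i, rfl⟩
      have h1 : (Pi.single i 1 : ι → k) ∈ LinearMap.ker L := by rw [htop]; trivial
      rw [LinearMap.mem_ker, hL, Ideal.Quotient.eq_zero_iff_mem] at h1
      have h2 : ∑ j, (Pi.single i 1 : ι → k) j • w j = w i := by
        simp [Pi.single_apply]
      rwa [h2] at h1)
    refine ⟨p, hp, fun c hc => h c ?_⟩
    rw [LinearMap.mem_ker, hL, Ideal.Quotient.eq_zero_iff_mem]
    exact hc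
  choose p hp h using key
  have hfin := minimalPrimes.finite_of_isNoetherianRing B
  have : Fintype (minimalPrimes B) := hfin.fintype
  refine ⟨∏ P, p P, Finset.prod_ne_zero_iff.mpr fun P _ => hp P, fun c hc => ?_⟩
  rw [map_prod, Finset.prod_ne_zero_iff] at hc
  exact mem_nonZeroDivisors _ fun P hP hs => hc ⟨P, hP⟩ (Finset.mem_univ _) (h ⟨P, hP⟩ c hs)

end K27.NZD
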